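import Cfsg.Agent.ClassicalMax.Generic
import Cfsg.Agent.Classical.QuadForm

/-!
Orthogonal forms of small dimension in odd characteristic: Eichler elements at a singular point, the transitivity of
the special orthogonal group on singular points, and how one transvection with singular centre and tangent axis
generates all transvections.
-/

set_option autoImplicit false

namespace Cfsg.Agent.ClassicalMax.SmallForm.Orth

open Module QuadraticMap Cfsg.Agent.Classical Cfsg.Agent.ClassicalMax

variable {F V : Type*} [Field F] [AddCommGroup V] [Module F V] {Q : QuadraticForm F V}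

/-- the polar form as a bilinear map -/
noncomputable def pb (Q : QuadraticForm F V) : V →ₗ[F] V →ₗ[F] F := polarBilin Q

theorem pb_apply (x y : V) : pb Q x y = polar Q x y := rfl

theorem pb_symm (x y : V) : pb Q x y = pb Q y x := polar_comm _ x y

theorem pb_self (x : V) : pb Q x x = 2 * Q x := Quad.polar_self' x

theorem q_add (x y : V) : Q (x + y) = Q x + Q y + pb Q x y := Quad.map_add' x y

theorem q_smul (a : F) (x : V) : Q (a • x) = a * a * Q x := Quad.map_smul' a x

theorem q_sub (x y : V) : Q (x - y) = Q x + Q y - pb Q x y := by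
  rw [sub_eq_add_neg, q_add, QuadraticMap.map_neg, map_neg]; ring

theorem pb_iso {g : V ≃ₗ[F] V} (hg : g ∈ Quad.oG Q) (x y : V) : pb Q (g x) (g y) = pb Q x y :=
  Quad.polar_eq_of_mem hg x y

/-- the Eichler element at a singular vector -/
noncomputable def eich (Q : QuadraticForm F V) (s y : V) : V ≃ₗ[F] V :=
  tvec (pb Q y + Q y • pb Q s) s * tvec (-pb Q s) y

variable {s : V} (hs : Q s = 0)
include hs

theorem pb_ss : pb Q s s = 0 := by rw [pb_self, hs, mul_zero]

theorem eich_apply {y : V} (hy : pb Q s y = 0) (x : V) :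
    eich Q s y x = x - pb Q s x • y + (pb Q y x - Q y * pb Q s x) • s := by
  have h1 : (pb Q y + Q y • pb Q s) s = 0 := by
    rw [LinearMap.add_apply, LinearMap.smul_apply, pb_symm y s, hy, pb_ss hs, smul_zero, add_zero]
  have h2 : (-pb Q s) y = 0 := by rw [LinearMap.neg_apply, hy, neg_zero]
  rw [eich, LinearEquiv.mul_apply, tvec_apply h2, tvec_apply h1]
  simp only [LinearMap.add_apply, LinearMap.smul_apply, LinearMap.neg_apply, map_add, map_smul, pb_self y, hy, smul_eq_mul]
  module

theorem eich_self {y : V} (hy : pb Q s y = 0) : eich Q s y s = s := by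
  rw [eich_apply hs hy, pb_ss hs, pb_symm y s, hy]; simp

theorem eich_perp {y : V} (hy : pb Q s y = 0) {x : V} (hx : pb Q s x = 0) :
    eich Q s y x = x + pb Q y x • s := by
  rw [eich_apply hs hy, hx]; simp

theorem eich_add_smul {y : V} (hy : pb Q s y = 0) (a : F) : eich Q s (y + a • s) = eich Q s y := by
  have hy' : pb Q s (y + a • s) = 0 := by rw [map_add, map_smul, hy, pb_ss hs, smul_zero, add_zero]
  refine LinearEquiv.ext fun x => ?_
  rw [eich_apply hs hy', eich_apply hs hy, q_add, q_smul, hs, map_smul (pb Q y) a s, pb_symm y s, hy]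
  simp only [map_add, map_smul, LinearMap.add_apply, LinearMap.smul_apply, smul_eq_mul]
  module

theorem eich_mul {y z : V} (hy : pb Q s y = 0) (hz : pb Q s z = 0) :
    eich Q s y * eich Q s z = eich Q s (y + z) := by
  have hyz : pb Q s (y + z) = 0 := by rw [map_add, hy, hz, add_zero]
  refine LinearEquiv.ext fun x => ?_
  rw [LinearEquiv.mul_apply, eich_apply hs hz, eich_apply hs hy, eich_apply hs hyz, q_add]
  simp only [map_add, map_sub, map_smul, LinearMap.add_apply, LinearMap.smul_apply, smul_eq_mul, pb_ss hs, hz, pb_symm y s, hy]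
  module

theorem eich_zero : eich Q s 0 = 1 := LinearEquiv.ext fun x => by
  rw [eich_apply hs (map_zero _)]; simp

theorem eich_inv {y : V} (hy : pb Q s y = 0) : (eich Q s y)⁻¹ = eich Q s (-y) :=
  inv_eq_of_mul_eq_one_right (by rw [eich_mul hs hy (by rw [map_neg, hy, neg_zero]), add_neg_cancel, eich_zero hs])

theorem eich_pow {y : V} (hy : pb Q s y = 0) : ∀ n : ℕ, eich Q s y ^ n = eich Q s ((n : F) • y)
  | 0 => by rw [pow_zero, Nat.cast_zero, zero_smul, eich_zero hs]
  | n + 1 => by
    rw [pow_succ, eich_pow hy n, eich_mul hs (by rw [map_smul, hy, smul_zero]) hy, Nat.cast_succ, add_smul, one_smul]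

theorem eich_mem {y : V} (hy : pb Q s y = 0) : eich Q s y ∈ Quad.oG Q := fun x => by
  rw [eich_apply hs hy, q_add, q_sub, q_smul, q_smul, hs]
  simp only [map_sub, map_smul, LinearMap.sub_apply, LinearMap.smul_apply, smul_eq_mul, pb_symm x s, pb_symm x y, pb_symm y s, hy]
  ring

omit hs in
theorem eich_det [FiniteDimensional F V] (s y : V) : LinearMap.det (eich Q s y).toLinearMap = 1 := by
  rw [show (eich Q s y).toLinearMap = (tvec (pb Q y + Q y • pb Q s) s).toLinearMap ∘ₗ (tvec (-pb Q s) y).toLinearMap from rfl,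
    LinearMap.det_comp, det_tvec, det_tvec, one_mul]

omit hs

/-- the standing hypotheses -/
structure Data (Q : QuadraticForm F V) (M : Subgroup (V ≃ₗ[F] V)) : Prop where
  two : (2 : F) ≠ 0
  nd : (polarBilin Q).Nondegenerate
  dim : 3 ≤ finrank F V
  val : ∀ a b c : F, a ≠ 0 → b ≠ 0 → ∃ x y : F, a * x ^ 2 + b * y ^ 2 = c
  sub : ∀ g ∈ Quad.oG Q, LinearMap.det g.toLinearMap = 1 → g ∈ M

variable [FiniteDimensional F V] {M : Subgroup (V ≃ₗ[F] V)} (h : Data Q M)
include h

theorem eq_zero {x : V} (hx : ∀ y, pb Q x y = 0) : x = 0 := h.nd.1 x hx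

theorem eich_memM {s y : V} (hs : Q s = 0) (hy : pb Q s y = 0) : eich Q s y ∈ M :=
  h.sub _ (eich_mem hs hy) (eich_det s y)

theorem exists_repr (φ : Dual F V) : ∃ z, pb Q z = φ :=
  ⟨(LinearMap.BilinForm.toDual (polarBilin Q) h.nd).symm φ, LinearMap.ext fun x =>
    LinearMap.BilinForm.apply_toDual_symm_apply (hB := h.nd) (f := φ) x⟩

theorem det_refl {a : V} (ha : Q a ≠ 0) : LinearMap.det (Quad.refl ha).toLinearMap = -1 := by
  have e : (Quad.refl ha).toLinearMap = LinearMap.transvection (-(Q a)⁻¹ • (pb Q).flip a) a :=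
    LinearMap.ext fun x => by
      show Quad.refl ha x = _
      rw [Quad.refl_apply, LinearMap.transvection.apply, sub_eq_add_neg, ← neg_smul]
      simp [pb_apply, div_eq_mul_inv, mul_comm]
  rw [e, LinearMap.transvection.det, LinearMap.smul_apply, LinearMap.flip_apply, pb_self, smul_eq_mul]
  field_simp
  ring

theorem refl_mul_memM {a b : V} (ha : Q a ≠ 0) (hb : Q b ≠ 0) : Quad.refl ha * Quad.refl hb ∈ M :=
  h.sub _ (mul_mem (Quad.refl_mem ha) (Quad.refl_mem hb)) (by
    rw [show (Quad.refl ha * Quad.refl hb).toLinearMap = (Quad.refl ha).toLinearMap ∘ₗ (Quad.refl hb).toLinearMap from rfl,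
      LinearMap.det_comp, det_refl h, det_refl h]; ring)

theorem exists_partner {s : V} (hs : Q s = 0) (hs0 : s ≠ 0) : ∃ t, Q t = 0 ∧ pb Q s t = 1 := by
  obtain ⟨k, -, hk⟩ := Quad.exists_perp h.nd (S := (⊥ : Submodule F V)) (fun hm => hs0 (by simpa using hm))
  have hk' : pb Q s k = 1 := hk
  refine ⟨k - Q k • s, ?_, ?_⟩
  · rw [q_sub, q_smul, hs, map_smul, pb_symm k s, hk', smul_eq_mul]; ring
  · rw [map_sub, map_smul, hk', pb_ss hs, smul_zero, sub_zero]

theorem exists_perp_ne (l : List V) (hl : l.length < finrank F V) : ∃ x : V, x ≠ 0 ∧ ∀ a ∈ l, pb Q a x = 0 := by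
  classical
  by_contra! hc
  let T : V →ₗ[F] (Fin l.length → F) := LinearMap.pi fun i => pb Q (l.get i)
  have hinj : Function.Injective T := (injective_iff_map_eq_zero T).2 fun x hx => by
    by_contra h0
    obtain ⟨a, ha, hax⟩ := hc x h0
    obtain ⟨i, rfl⟩ := List.mem_iff_get.1 ha
    exact hax (congrFun hx i)
  have := LinearMap.finrank_le_finrank_of_injective hinj
  rw [Module.finrank_fin_fun] at this
  omega

/-- the orthogonal complement of a hyperbolic pair has an anisotropic vector -/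
theorem exists_core {s t : V} (hs : Q s = 0) (ht : Q t = 0) (hst : pb Q s t = 1) :
    ∃ b, pb Q s b = 0 ∧ pb Q t b = 0 ∧ Q b ≠ 0 := by
  by_contra! hc
  obtain ⟨w, hw0, hw⟩ := exists_perp_ne h [s, t] (by have := h.dim; simp only [List.length_cons, List.length_nil]; omega)
  have hws : pb Q s w = 0 := hw s (by simp)
  have hwt : pb Q t w = 0 := hw t (by simp)
  refine hw0 (eq_zero h fun x => ?_)
  set x' := x - pb Q t x • s - pb Q s x • t with hx'
  have h1 : pb Q s x' = 0 := by
    rw [hx', map_sub, map_sub, map_smul, map_smul, pb_ss hs, hst]; simp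
  have h2 : pb Q t x' = 0 := by
    rw [hx', map_sub, map_sub, map_smul, map_smul, pb_symm t s, hst, pb_ss ht]; simp
  have e := q_add (Q := Q) w x'
  rw [hc w hws hwt, hc x' h1 h2, hc (w + x') (by rw [map_add, hws, h1, add_zero]) (by rw [map_add, hwt, h2, add_zero])] at e
  rw [hx', map_sub, map_sub, map_smul, map_smul, pb_symm w s, hws, pb_symm w t, hwt] at e
  simpa using e.symm

/-- a vector orthogonal to everything orthogonal to a singular vector is a multiple of it -/
theorem mem_span_of_perp {s : V} (hs : Q s = 0) (hs0 : s ≠ 0) {x : V} (hx : ∀ y, pb Q s y = 0 → pb Q x y = 0) :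
    ∃ a : F, x = a • s := by
  obtain ⟨t, -, hst⟩ := exists_partner h hs hs0
  refine ⟨pb Q x t, sub_eq_zero.1 (eq_zero h fun v => ?_)⟩
  have := hx (v - pb Q s v • t) (by rw [map_sub, map_smul, hst, smul_eq_mul, mul_one, sub_self])
  rw [map_sub, map_smul, smul_eq_mul] at this
  rw [map_sub, LinearMap.sub_apply, map_smul, LinearMap.smul_apply, smul_eq_mul]
  linear_combination this

/-- two singular vectors which are not orthogonal are swapped up to scalars by the special orthogonal group -/
theorem exists_swap {s t : V} (hs : Q s = 0) (ht : Q t = 0) (hst : pb Q s t ≠ 0) {a : F} (ha : a ≠ 0) :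
    ∃ k ∈ Quad.oG Q, k ∈ M ∧ k s = a • t := by
  have hd : Q (s - a • t) ≠ 0 := by
    rw [q_sub, q_smul, hs, ht, map_smul, smul_eq_mul]
    simpa using ⟨ha, hst⟩
  set t' := (pb Q s t)⁻¹ • t with ht'
  obtain ⟨b, hbs, hbt, hb⟩ := exists_core h hs (t := t') (by rw [ht', q_smul, ht, mul_zero])
    (by rw [ht', map_smul, smul_eq_mul, inv_mul_cancel₀ hst])
  have hbt' : pb Q t b = 0 := by
    rw [ht', map_smul, LinearMap.smul_apply, smul_eq_mul, mul_eq_zero] at hbt
    exact hbt.resolve_left (inv_ne_zero hst)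
  refine ⟨Quad.refl hb * Quad.refl hd, mul_mem (Quad.refl_mem hb) (Quad.refl_mem hd), refl_mul_memM h hb hd, ?_⟩
  have e : Quad.refl hd s = a • t := by
    rw [Quad.refl_apply, ← pb_apply, q_sub, q_smul, hs, ht, map_sub, pb_ss hs, map_smul, smul_eq_mul]
    rw [show (0 - a * pb Q s t) / (0 + a * a * 0 - a * pb Q s t) = 1 by
      rw [mul_zero, add_zero]; exact div_self (by simpa using ⟨ha, hst⟩), one_smul]
    abel
  rw [LinearEquiv.mul_apply, e, map_smul, Quad.refl_fix hb (by rw [← pb_apply]; exact hbt')]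

/-- a relation between non-orthogonal singular vectors propagates to all pairs -/
theorem transfer {P : V → Prop} (hP : ∀ s r, s ≠ 0 → r ≠ 0 → Q s = 0 → Q r = 0 → pb Q s r ≠ 0 → P s → P r)
    {s r : V} (hs0 : s ≠ 0) (hr0 : r ≠ 0) (hs : Q s = 0) (hr : Q r = 0) (h0 : P s) : P r := by
  by_cases hsr : pb Q s r = 0
  swap
  · exact hP s r hs0 hr0 hs hr hsr h0
  obtain ⟨t, ht, hst⟩ := exists_partner h hs hs0
  have ht0 : t ≠ 0 := fun e => by rw [e, map_zero] at hst; exact zero_ne_one hst
  have h1 := hP s t hs0 ht0 hs ht (by rw [hst]; exact one_ne_zero) h0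
  by_cases htr : pb Q t r = 0
  swap
  · exact hP t r ht0 hr0 ht hr htr h1
  -- through the sum
  have hq : Q (s + r) = 0 := by rw [q_add, hs, hr, hsr]; simp
  have htq : pb Q t (s + r) = 1 := by rw [map_add, pb_symm t s, hst, htr, add_zero]
  have hq0 : s + r ≠ 0 := fun e => by rw [e, map_zero] at htq; exact zero_ne_one htq
  have h2 := hP t (s + r) ht0 hq0 ht hq (by rw [htq]; exact one_ne_zero) h1
  obtain ⟨t', ht', hrt'⟩ := exists_partner h hr hr0
  have ht'0 : t' ≠ 0 := fun e => by rw [e, map_zero] at hrt'; exact zero_ne_one hrt'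
  by_cases hst' : pb Q (s + r) t' = 0
  · refine hP t' r ht'0 hr0 ht' hr (by rw [pb_symm, hrt']; exact one_ne_zero)
      (hP s t' hs0 ht'0 hs ht' (fun e => ?_) h0)
    rw [map_add, LinearMap.add_apply, e, hrt', zero_add] at hst'
    exact one_ne_zero hst'
  · exact hP t' r ht'0 hr0 ht' hr (by rw [pb_symm, hrt']; exact one_ne_zero) (hP (s + r) t' hq0 ht'0 hq ht' hst' h2)

theorem exists_move {s r : V} (hs0 : s ≠ 0) (hr0 : r ≠ 0) (hs : Q s = 0) (hr : Q r = 0) :
    ∃ k ∈ Quad.oG Q, k ∈ M ∧ ∃ a : F, a ≠ 0 ∧ k s = a • r := by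
  refine transfer h (P := fun x => ∃ k ∈ Quad.oG Q, k ∈ M ∧ ∃ a : F, a ≠ 0 ∧ k s = a • x) ?_ hs0 hr0 hs hr
    ⟨1, one_mem _, one_mem _, 1, one_ne_zero, (one_smul F s).symm⟩
  rintro x y hx0 hy0 hx hy hxy ⟨k, hk, hkM, a, ha, e⟩
  obtain ⟨k', hk', hk'M, e'⟩ := exists_swap h hx hy hxy (one_ne_zero (α := F))
  exact ⟨k' * k, mul_mem hk' hk, mul_mem hk'M hkM, a, ha, by rw [LinearEquiv.mul_apply, e, map_smul, e', one_smul]⟩

/-- the singular vectors span the space -/
theorem singular_induction {P : V → Prop} (hadd : ∀ x y, P x → P y → P (x + y)) (hsing : ∀ x, Q x = 0 → P x)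
    {s : V} (hs : Q s = 0) (hs0 : s ≠ 0) (x : V) : P x := by
  obtain ⟨t, ht, hst⟩ := exists_partner h hs hs0
  have hline : ∀ (c : F) (u : V), Q u = 0 → P (c • u) := fun c u hu => hsing _ (by rw [q_smul, hu, mul_zero])
  set z := x - pb Q t x • s - pb Q s x • t with hz
  have h1 : pb Q z s = 0 := by
    rw [pb_symm, hz, map_sub, map_sub, map_smul, map_smul, pb_ss hs, hst]; simp
  have h2 : pb Q z t = 0 := by
    rw [pb_symm, hz, map_sub, map_sub, map_smul, map_smul, pb_symm t s, hst, pb_ss ht]; simp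
  have hzP : P (z + (Q z • s + (-1 : F) • t)) := hsing _ (by
    rw [q_add, q_add, q_smul, q_smul, hs, ht]
    simp only [map_add, map_smul, LinearMap.smul_apply, h1, h2, hst, smul_eq_mul]
    ring)
  have hx : x = (z + (Q z • s + (-1 : F) • t)) + ((pb Q t x - Q z) • s + (pb Q s x + 1) • t) := by
    rw [hz]; module
  rw [hx]
  exact hadd _ _ hzP (hadd _ _ (hline _ _ hs) (hline _ _ ht))

/-- all the transvections at a singular vector with tangent axis -/
def Full (Q : QuadraticForm F V) (M : Subgroup (V ≃ₗ[F] V)) (s : V) : Prop := ∀ a : F, tvec (a • pb Q s) s ∈ M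

theorem full_of_one {s : V} (hs : Q s = 0) (hs0 : s ≠ 0) {c : F} (hc : c ≠ 0) (hm : tvec (c • pb Q s) s ∈ M) :
    Full Q M s := by
  have h0 : (c • pb Q s) s = 0 := by rw [LinearMap.smul_apply, pb_ss hs, smul_zero]
  obtain ⟨t, ht, hst⟩ := exists_partner h hs hs0
  have ht0 : t ≠ 0 := fun e => by rw [e, map_zero] at hst; exact zero_ne_one hst
  have hsq : ∀ x : F, tvec ((c * (x * x)) • pb Q s) s ∈ M := fun x => by
    rcases eq_or_ne x 0 with rfl | hx
    · rw [mul_zero, mul_zero, zero_smul, tvec_zero_left]; exact one_mem M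
    obtain ⟨k, hk, hkM, hks⟩ := exists_swap h hs ht (by rw [hst]; exact one_ne_zero) (one_ne_zero (α := F))
    obtain ⟨k', hk', hk'M, hkt⟩ := exists_swap h ht hs (by rw [pb_symm, hst]; exact one_ne_zero) hx
    set j := k' * k with hj
    have hjM : j ∈ M := mul_mem hk'M hkM
    have hjs : j s = x • s := by rw [hj, LinearEquiv.mul_apply, hks, one_smul, hkt]
    have e : (c • pb Q s).comp (j⁻¹ : V ≃ₗ[F] V).toLinearMap = (c * x) • pb Q s := LinearMap.ext fun v => by
      show c * pb Q s (j⁻¹ v) = (c * x) * pb Q s v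
      rw [← pb_iso (mul_mem hk' hk) s (j⁻¹ v), ← hj, hjs, apply_inv, map_smul, LinearMap.smul_apply, smul_eq_mul, mul_assoc]
    have := mul_mem (mul_mem hjM hm) (inv_mem hjM)
    rw [conj_tvec j h0, hjs, e, ← tvec_smul, smul_smul] at this
    rwa [show c * (x * x) = x * (c * x) by ring]
  intro a
  obtain ⟨x, y, hxy⟩ := h.val c c a hc hc
  have := mul_mem (hsq x) (hsq y)
  rwa [tvec_mul_left (by rw [LinearMap.smul_apply, pb_ss hs, smul_zero]) (by rw [LinearMap.smul_apply, pb_ss hs, smul_zero]),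
    ← add_smul, show c * (x * x) + c * (y * y) = a by linear_combination hxy] at this

theorem full_map {s : V} (hs : Q s = 0) (hf : Full Q M s) {k : V ≃ₗ[F] V} (hk : k ∈ Quad.oG Q) (hkM : k ∈ M) :
    Full Q M (k s) := fun a => by
  have := mul_mem (mul_mem hkM (hf a)) (inv_mem hkM)
  rwa [conj_tvec k (by rw [LinearMap.smul_apply, pb_ss hs, smul_zero]), show (a • pb Q s).comp (k⁻¹ : V ≃ₗ[F] V).toLinearMap = a • pb Q (k s) from
    LinearMap.ext fun v => by
      show a * pb Q s (k⁻¹ v) = a * pb Q (k s) v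
      rw [← pb_iso hk s (k⁻¹ v), apply_inv]] at this

theorem full_all {s : V} (hs : Q s = 0) (hs0 : s ≠ 0) (hf : Full Q M s) {r : V} (hr : Q r = 0) : Full Q M r := by
  rcases eq_or_ne r 0 with rfl | hr0
  · intro a; rw [tvec_zero_right]; exact one_mem M
  refine transfer h (P := Full Q M) ?_ hs0 hr0 hs hr hf
  intro x y _ _ hx hy hxy hfx
  obtain ⟨k, hk, hkM, e⟩ := exists_swap h hx hy hxy (one_ne_zero (α := F))
  have := full_map h hx hfx hk hkM
  rwa [e, one_smul] at this

/-- a full transvection group at one singular vector gives all transvections -/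
theorem all_of_full (hfin : Finite F) {s : V} (hs : Q s = 0) (hs0 : s ≠ 0) (hf : Full Q M s) :
    ∀ (φ : Dual F V) (v : V), φ v = 0 → tvec φ v ∈ M := by
  have full : ∀ r, Q r = 0 → Full Q M r := fun r hr => full_all h hs hs0 hf hr
  -- the transvections seen in a hyperbolic plane
  have plane : ∀ v z : V, pb Q z v = 0 → Q v = -Q z → Q z ≠ 0 → ∀ a : F, tvec (a • pb Q z) v ∈ M := by
    intro v z hzv hv hz a
    have hvz : pb Q v z = 0 := by rw [pb_symm, hzv]
    have h1 : Q (v + z) = 0 := by rw [q_add, hv, hvz]; ring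
    have h2 : Q (v - z) = 0 := by rw [q_sub, hv, hvz]; ring
    have h12 : pb Q (v + z) (v - z) = -(4 * Q z) := by
      simp only [map_add, map_sub, LinearMap.add_apply, pb_self, hvz, hzv, hv]; ring
    have h4 : (4 : F) ≠ 0 := by
      have := mul_ne_zero h.two h.two; norm_num at this; exact this
    set b : F := (pb Q (v + z) (v - z))⁻¹ with hb
    have hbP : b * pb Q (v + z) (v - z) = 1 := inv_mul_cancel₀ (by rw [h12]; exact neg_ne_zero.2 (mul_ne_zero h4 hz))
    set k := tvec (b • pb Q (v - z)) (v - z) with hk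
    have hk0 : (b • pb Q (v - z)) (v - z) = 0 := by rw [LinearMap.smul_apply, pb_ss h2, smul_zero]
    have hkM : k ∈ M := full _ h2 b
    set a' : F := a / 4 with ha'
    have h10 : (a' • pb Q (v + z)) (v + z) = 0 := by rw [LinearMap.smul_apply, pb_ss h1, smul_zero]
    have := mul_mem (mul_mem hkM (full _ h1 a')) (inv_mem hkM)
    rw [conj_tvec k h10, show k (v + z) = (2 : F) • v by
      rw [hk, tvec_apply hk0, LinearMap.smul_apply, pb_symm (v - z), smul_eq_mul, hbP, one_smul, two_smul]; abel,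
      show (a' • pb Q (v + z)).comp (k⁻¹ : V ≃ₗ[F] V).toLinearMap = a' • pb Q ((2 : F) • z) from LinearMap.ext fun x => by
        show a' * pb Q (v + z) (k⁻¹ x) = a' * pb Q ((2 : F) • z) x
        rw [hk, tvec_inv hk0, tvec_apply (by rw [LinearMap.neg_apply, hk0, neg_zero]), map_add, map_smul (pb Q (v + z)),
          LinearMap.neg_apply, LinearMap.smul_apply]
        simp only [smul_eq_mul, map_add, map_sub, map_smul, LinearMap.add_apply, LinearMap.sub_apply, LinearMap.smul_apply]
        simp only [map_add, map_sub, LinearMap.add_apply] at hbP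
        linear_combination (-(a' * (pb Q v x - pb Q z x))) * hbP,
      ← tvec_smul, map_smul, smul_smul, smul_smul, show (2 : F) * a' * 2 = a by rw [ha']; field_simp; ring] at this
    exact this
  -- the full centre
  have hcentre : ∀ y, pb Q s y = 0 → tvec (pb Q y) s ∈ M := by
    have haniso : ∀ z, pb Q s z = 0 → Q z ≠ 0 → tvec (pb Q z) s ∈ M := by
      intro z hsz hz
      have hzs : pb Q z s = 0 := by rw [pb_symm, hsz]
      obtain ⟨w, hw, hw'⟩ := Quad.exists_perp h.nd (S := Submodule.span F ({z} : Set V)) (x := s) (fun hm => by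
        obtain ⟨c, hc⟩ := Submodule.mem_span_singleton.1 hm
        rw [← hc, map_smul, LinearMap.smul_apply, pb_self, smul_eq_mul, mul_eq_zero, mul_eq_zero] at hsz
        rcases hsz with e | e | e
        exacts [hs0 (by rw [← hc, e, zero_smul]), h.two e, hz e])
      have hzw : pb Q z w = 0 := hw z (Submodule.mem_span_singleton_self z)
      have hsw : pb Q s w = 1 := hw'
      set t := w - Q w • s with htd
      have ht : Q t = 0 := by rw [htd, q_sub, q_smul, hs, map_smul, pb_symm w s, hsw, smul_eq_mul]; ring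
      have hst : pb Q s t = 1 := by rw [htd, map_sub, map_smul, hsw, pb_ss hs, smul_zero, sub_zero]
      have hzt : pb Q z t = 0 := by rw [htd, map_sub, map_smul, hzw, hzs, smul_zero, sub_zero]
      set v := s + (-Q z) • t with hv
      have hQv : Q v = -Q z := by rw [hv, q_add, q_smul, hs, ht, map_smul, hst, smul_eq_mul]; ring
      have hzv : pb Q z v = 0 := by rw [hv, map_add, map_smul, hzs, hzt, smul_zero, add_zero]
      have hsv : pb Q s v = -Q z := by rw [hv, map_add, map_smul, pb_ss hs, hst, smul_eq_mul]; ring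
      have h2 := plane v z hzv hQv hz 1
      rw [one_smul] at h2
      have e := comm_tvec (φ := (-Q z)⁻¹ • pb Q s) (ψ := pb Q z) (v := s) (w := v)
        (by rw [LinearMap.smul_apply, pb_ss hs, smul_zero]) hzv hzs
      rw [LinearMap.smul_apply, hsv, smul_eq_mul, inv_mul_cancel₀ (neg_ne_zero.2 hz), one_smul] at e
      rw [← e]
      have h1 := hf (-Q z)⁻¹
      exact mul_mem (mul_mem (mul_mem h1 h2) (inv_mem h1)) (inv_mem h2)
    intro y hy
    obtain ⟨t, ht, hst⟩ := exists_partner h hs hs0
    obtain ⟨b, hsb, -, hb⟩ := exists_core h hs ht hst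
    have key : ∀ y₁ y₂, pb Q s y₁ = 0 → pb Q s y₂ = 0 → tvec (pb Q y₁) s ∈ M → tvec (pb Q y₂) s ∈ M →
        tvec (pb Q (y₁ + y₂)) s ∈ M := fun y₁ y₂ h1 h2 m1 m2 => by
      rw [map_add, ← tvec_mul_left (by rw [pb_symm, h1]) (by rw [pb_symm, h2])]
      exact mul_mem m1 m2
    by_cases hQy : Q y = 0
    swap
    · exact haniso y hy hQy
    by_cases h1 : Q (y + b) = 0
    · have h2 : Q (y - b) ≠ 0 := fun h2 => hb (by
        rw [q_add, hQy] at h1; rw [q_sub, hQy] at h2
        exact (mul_eq_zero.1 (show (2 : F) * Q b = 0 by linear_combination h1 + h2)).resolve_left h.two)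
      have := key (y - b) b (by rw [map_sub, hy, hsb, sub_zero]) hsb (haniso _ (by rw [map_sub, hy, hsb, sub_zero]) h2) (haniso b hsb hb)
      rwa [sub_add_cancel] at this
    · have hb' : pb Q s (-b) = 0 := by rw [map_neg, hsb, neg_zero]
      have := key (y + b) (-b) (by rw [map_add, hy, hsb, add_zero]) hb' (haniso _ (by rw [map_add, hy, hsb, add_zero]) h1)
        (haniso _ hb' (by rwa [QuadraticMap.map_neg]))
      rwa [add_neg_cancel_right] at this
  refine all_of_one M (fun U hU => ?_) hs0 fun φ hφ => ?_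
  · rcases eq_or_ne U ⊥ with hU0 | hU0
    · exact Or.inl hU0
    obtain ⟨x, hx, hx0⟩ := U.exists_mem_ne_zero_of_ne_bot hU0
    have hin : ∀ r, Q r = 0 → pb Q r x ≠ 0 → r ∈ U := fun r hr hrx => by
      have := hU _ (full r hr 1) x hx
      rw [tvec_apply (by rw [LinearMap.smul_apply, pb_ss hr, smul_zero]), U.add_mem_iff_right hx, LinearMap.smul_apply,
        one_smul] at this
      exact (U.smul_mem_iff hrx).1 this
    obtain ⟨r, hr, hrx⟩ : ∃ r, Q r = 0 ∧ pb Q r x ≠ 0 := by
      by_contra! hc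
      refine hx0 (eq_zero h fun v => ?_)
      rw [pb_symm]
      exact singular_induction h (P := fun v => pb Q v x = 0) (fun a b ha hb => by rw [map_add, LinearMap.add_apply, ha, hb, add_zero])
        hc hs hs0 v
    have hr0 : r ≠ 0 := fun e => hrx (by rw [e, map_zero, LinearMap.zero_apply])
    refine Or.inr (eq_top_iff.2 fun v _ => singular_induction h (P := (· ∈ U)) (fun a b ha hb => U.add_mem ha hb) ?_ hs hs0 v)
    intro w hw
    rcases eq_or_ne w 0 with rfl | hw0
    · exact U.zero_mem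
    refine transfer h (P := (· ∈ U)) ?_ hr0 hw0 hr hw (hin r hr hrx)
    intro a b _ _ _ hb hab ha
    have := hU _ (full b hb 1) a ha
    rw [tvec_apply (by rw [LinearMap.smul_apply, pb_ss hb, smul_zero]), U.add_mem_iff_right ha, LinearMap.smul_apply,
      one_smul] at this
    exact (U.smul_mem_iff (by rwa [pb_symm])).1 this
  · obtain ⟨y, rfl⟩ := exists_repr h φ
    exact hcentre y (by rw [pb_symm]; exact hφ)

end Cfsg.Agent.ClassicalMax.SmallForm.Orth
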