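import Cfsg.Agent.ClassicalMax.SmallForm.OrthSylow

/-!
The similarity group of a quadratic form in dimensions three and four, odd characteristic, is maximal in the special
linear group: without tangent transvections every element of an overgroup respects the tangent hyperplanes of the
quadric, so it is a similarity.
-/

set_option autoImplicit false
open Cfsg

namespace Cfsg.Agent.ClassicalMax.SmallForm.Orth

open Module QuadraticMap Cfsg.Agent.Classical Cfsg.Agent.ClassicalMax

variable {F V : Type*} [Field F] [AddCommGroup V] [Module F V] [FiniteDimensional F V] {Q : QuadraticForm F V} {s : V}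
variable [Finite F] {M : Subgroup (V ≃ₗ[F] V)}

omit [FiniteDimensional F V] [Finite F] in
theorem conj_apply (m e : V ≃ₗ[F] V) (x : V) : (m * e * m⁻¹) (m x) = m (e x) := by
  rw [LinearEquiv.mul_apply, LinearEquiv.mul_apply, inv_apply]

/-- elements of the unipotent radical of a flag refining a tangent flag -/
theorem flag_mem (h : Small Q M) (hs : Q s = 0) (hs0 : s ≠ 0) {l : V} (hl : pb Q s l = 0) {g : V ≃ₗ[F] V} (hgM : g ∈ M)
    (h1 : g s = s) (h2 : ∀ x, pb Q s x = 0 → g x - x ∈ Submodule.span F ({s, l} : Set V))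
    (h3 : g l - l ∈ F ∙ s) (h4 : ∀ x, pb Q s (g x) = pb Q s x) : g ∈ eGroup hs := by
  obtain ⟨p, hchar⟩ := CharP.exists F
  haveI : Fact p.Prime := ⟨CharP.char_is_prime F p⟩
  let L := Submodule.span F ({s, l} : Set V)
  haveI : Nontrivial V := ⟨⟨s, 0, hs0⟩⟩
  have hLs : F ∙ s ≤ L := Submodule.span_mono (by simp)
  let G : Subgroup (V ≃ₗ[F] V) :=
    { carrier := {g | g ∈ M ∧ g s = s ∧ (∀ x, pb Q s (g x) = pb Q s x) ∧ (∀ x, pb Q s x = 0 → g x - x ∈ L) ∧ g l - l ∈ F ∙ s}
      mul_mem' := by
        rintro a b ⟨ha, ha1, ha4, ha2, ha3⟩ ⟨hb, hb1, hb4, hb2, hb3⟩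
        refine ⟨mul_mem ha hb, ?_, fun x => ?_, fun x hx => ?_, ?_⟩
        · rw [LinearEquiv.mul_apply, hb1, ha1]
        · rw [LinearEquiv.mul_apply, ha4, hb4]
        · rw [LinearEquiv.mul_apply, show a (b x) - x = (a (b x) - b x) + (b x - x) by abel]
          exact add_mem (ha2 _ (by rw [hb4, hx])) (hb2 x hx)
        · obtain ⟨c, hc⟩ := Submodule.mem_span_singleton.1 hb3
          rw [LinearEquiv.mul_apply, show b l = l + c • s by rw [hc]; abel, map_add, map_smul, ha1,
            show a l + c • s - l = (a l - l) + c • s by abel]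
          exact add_mem ha3 (Submodule.smul_mem _ _ (Submodule.mem_span_singleton_self s))
      one_mem' := ⟨one_mem M, rfl, fun x => rfl, fun x _ => by simp, by simp⟩
      inv_mem' := by
        rintro a ⟨ha, ha1, ha4, ha2, ha3⟩
        have hinv : ∀ x, pb Q s (a⁻¹ x) = pb Q s x := fun x => by rw [← ha4, apply_inv]
        have his : a⁻¹ s = s := by conv_lhs => rw [← ha1, inv_apply]
        refine ⟨inv_mem ha, his, hinv, fun x hx => ?_, ?_⟩
        · have := neg_mem (ha2 (a⁻¹ x) (by rw [hinv, hx]))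
          rwa [apply_inv, neg_sub] at this
        · obtain ⟨c, hc⟩ := Submodule.mem_span_singleton.1 ha3
          rw [show a⁻¹ l - l = (-c) • s by
            have e : a l = l + c • s := by rw [hc]; abel
            have := congrArg (fun v => (a⁻¹ : V ≃ₗ[F] V) v) e
            simp only [map_add, map_smul, his, inv_apply] at this
            conv_lhs => rw [show a⁻¹ l = l - c • s from eq_sub_of_add_eq this.symm]
            rw [neg_smul]; abel]
          exact Submodule.smul_mem _ _ (Submodule.mem_span_singleton_self s) }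
  have hE : eGroup hs ≤ G := by
    rintro _ ⟨y, hy, rfl⟩
    refine ⟨eich_memM h.toData hs hy, eich_self hs hy, fun x => ?_, fun x hx => ?_, ?_⟩
    · rw [eich_apply hs hy, map_add, map_sub, map_smul, map_smul, hy, pb_ss hs]; simp
    · rw [eich_perp hs hy hx, add_sub_cancel_left]
      exact hLs (Submodule.smul_mem _ _ (Submodule.mem_span_singleton_self s))
    · rw [eich_perp hs hy hl, add_sub_cancel_left]
      exact Submodule.smul_mem _ _ (Submodule.mem_span_singleton_self s)
  have hG : IsPGroup p G := fun a => ⟨4, Subtype.ext <| by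
    obtain ⟨-, ha1, ha4, ha2, ha3⟩ := a.2
    show (a : V ≃ₗ[F] V) ^ p ^ 4 = 1
    refine pow_eq_one_of_nilp (k := 4) _ (LinearMap.ext fun x => ?_) (Nat.lt_pow_self (Fact.out : p.Prime).one_lt).le
    set N : Module.End F V := (a : V ≃ₗ[F] V).toLinearMap - 1
    have hNa : ∀ y, N y = (a : V ≃ₗ[F] V) y - y := fun y => rfl
    have e1 : pb Q s (N x) = 0 := by rw [hNa, map_sub, ha4, sub_self]
    obtain ⟨c, d, hcd⟩ := Submodule.mem_span_pair.1 (ha2 _ e1)
    have e2 : N (N x) = c • s + d • l := by rw [hNa (N x), hcd]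
    obtain ⟨c', hc'⟩ := Submodule.mem_span_singleton.1 ha3
    show (N ^ 4) x = 0
    rw [pow_succ', pow_succ', pow_two, Module.End.mul_apply, Module.End.mul_apply, Module.End.mul_apply, e2, map_add, map_smul,
      map_smul, hNa s, ha1, sub_self, smul_zero, zero_add, hNa l, ← hc', smul_smul, map_smul, hNa s, ha1, sub_self, smul_zero]⟩
  exact le_eGroup h hs hs0 G (fun a ha => ha.1) hG hE ⟨hgM, h1, h4, h2, h3⟩

/-- in dimension at most four an element fixing a singular point fixes its tangent hyperplane -/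
theorem fix_perp (h : Small Q M) (hs : Q s = 0) (hs0 : s ≠ 0) {m : V ≃ₗ[F] V} (hm : m ∈ M) {α : F} (hα : m s = α • s) :
    ∀ x, pb Q s x = 0 → pb Q s (m x) = 0 := by
  have hD := h.toData
  obtain ⟨t, ht, hst⟩ := exists_partner hD hs hs0
  have hα0 : α ≠ 0 := fun e => hs0 (m.injective (by rw [hα, e, zero_smul, map_zero]))
  have his : m⁻¹ s = α⁻¹ • s := by
    conv_lhs => rw [← inv_smul_smul₀ hα0 s, ← hα, map_smul, inv_apply]
  suffices hi : ∀ x, pb Q s x = 0 → pb Q s (m⁻¹ x) = 0 by
    -- the inverse stabilises the hyperplane, so the element does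
    have hmap : (LinearMap.ker (pb Q s)).map (m⁻¹ : V ≃ₗ[F] V).toLinearMap = LinearMap.ker (pb Q s) :=
      Submodule.eq_of_le_of_finrank_eq (by rintro _ ⟨x, hx, rfl⟩; exact hi x hx) (LinearEquiv.finrank_map_eq _ _)
    intro x hx
    obtain ⟨y, hy, e⟩ := hmap.ge (show x ∈ LinearMap.ker (pb Q s) from hx)
    rw [← e]
    show pb Q s (m (m⁻¹ y)) = 0
    rw [apply_inv]; exact hy
  -- an element moving a vector `m y` of the hyperplane
  have conj_act : ∀ y, pb Q s y = 0 → ∀ x, (m * eich Q s y * m⁻¹) x =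
      x - pb Q s (m⁻¹ x) • m y + ((pb Q y (m⁻¹ x) - Q y * pb Q s (m⁻¹ x)) * α) • s := fun y hy x => by
    rw [LinearEquiv.mul_apply, LinearEquiv.mul_apply, eich_apply hs hy, map_add, map_sub, map_smul, map_smul, apply_inv, hα,
      smul_smul]
  by_cases hl : ∃ y, pb Q s y = 0 ∧ (∀ a : F, y ≠ a • s) ∧ pb Q s (m y) = 0
  · obtain ⟨y, hy, hys, hmy⟩ := hl
    have hg := flag_mem h hs hs0 (l := m y) hmy
      (g := m * eich Q s y * m⁻¹) (mul_mem (mul_mem hm (eich_memM hD hs hy)) (inv_mem hm)) ?_ (fun x hx => ?_) ?_ (fun x => ?_)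
    · obtain ⟨y', hy', e⟩ := hg
      intro x hx
      have h1 := conj_act y hy x
      rw [e, eich_perp hs hy' hx] at h1
      by_contra hne
      set c := pb Q s (m⁻¹ x)
      set d := (pb Q y (m⁻¹ x) - Q y * c) * α
      have e2 : c • m y = (d - pb Q y' x) • s := by
        linear_combination (norm := module) h1
      have e3 := congrArg (fun v => (m⁻¹ : V ≃ₗ[F] V) v) e2
      simp only [map_smul, inv_apply, his, smul_smul] at e3
      exact hys (c⁻¹ * ((d - pb Q y' x) * α⁻¹)) (by rw [mul_smul, ← e3, inv_smul_smul₀ hne])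
    · rw [conj_act y hy, his, map_smul, map_smul, pb_ss hs, pb_symm y s, hy]; simp
    · rw [conj_act y hy, show x - pb Q s (m⁻¹ x) • m y + _ - x = (-pb Q s (m⁻¹ x)) • m y +
        ((pb Q y (m⁻¹ x) - Q y * pb Q s (m⁻¹ x)) * α) • s by module]
      exact add_mem (Submodule.smul_mem _ _ (Submodule.subset_span (by simp)))
        (Submodule.smul_mem _ _ (Submodule.subset_span (by simp)))
    · rw [conj_act y hy, inv_apply, hy, zero_smul, sub_zero, add_sub_cancel_left]
      exact Submodule.smul_mem _ _ (Submodule.mem_span_singleton_self s)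
    · rw [conj_act y hy, map_add, map_sub, map_smul, map_smul, hmy, pb_ss hs]; simp
  -- the other case happens only in dimension three
  exfalso
  push Not at hl
  obtain ⟨b, hsb, htb, hb⟩ := exists_core hD hs ht hst
  have hbs : ∀ a : F, b ≠ a • s := fun a e => hb (by rw [e, q_smul, hs, mul_zero])
  have he : pb Q s (m b) ≠ 0 := hl b hsb hbs
  set a := pb Q s (m b) with had
  -- the tangent line is spanned by the two vectors
  have hline : ∀ y, pb Q s y = 0 → ∃ c d : F, y = c • b + d • s := by
    intro y hy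
    have hsy : pb Q s (y - (pb Q s (m y) / a) • b) = 0 := by rw [map_sub, map_smul, hy, hsb, smul_zero, sub_zero]
    have hmy : pb Q s (m (y - (pb Q s (m y) / a) • b)) = 0 := by
      rw [map_sub, map_smul, map_sub, map_smul, smul_eq_mul, ← had, div_mul_cancel₀ _ he, sub_self]
    by_cases hex : ∃ d : F, y - (pb Q s (m y) / a) • b = d • s
    · obtain ⟨d, hd⟩ := hex
      exact ⟨pb Q s (m y) / a, d, by rw [← hd]; abel⟩
    · push Not at hex
      exact absurd hmy (hl _ hsy hex)
  set c := pb Q s (m⁻¹ b) with hcd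
  have hc : c ≠ 0 := fun e0 => by
    obtain ⟨u, v, huv⟩ := hline _ (by rw [← hcd]; exact e0)
    have := congrArg (fun w => pb Q s (m w)) huv
    simp only [apply_inv, map_add, map_smul, hsb, hα, pb_ss hs, smul_zero, mul_zero, add_zero, ← had, smul_eq_mul] at this
    have hu0 : u = 0 := (mul_eq_zero.1 this.symm).resolve_right he
    refine hbs (v * α) ?_
    rw [hu0, zero_smul, zero_add] at huv
    rw [mul_smul, ← hα, ← map_smul, ← huv, apply_inv]
  have hm1 : ∀ ν : F, pb Q s (ν • b) = 0 := fun ν => by rw [map_smul, hsb, smul_zero]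
  set U := eich Q s ((-a⁻¹) • b) with hU
  set L := m * eich Q s (c⁻¹ • b) * m⁻¹ with hL
  set z₀ := U * L * U
  set z := z₀ * z₀ with hzd
  have hUM : U ∈ M := eich_memM hD hs (hm1 _)
  have hzM : z ∈ M := mul_mem (mul_mem (mul_mem hUM (mul_mem (mul_mem hm (eich_memM hD hs (hm1 _))) (inv_mem hm))) hUM)
    (mul_mem (mul_mem hUM (mul_mem (mul_mem hm (eich_memM hD hs (hm1 _))) (inv_mem hm))) hUM)
  have hUs : U s = s := eich_self hs (hm1 _)
  have hLs : L s = s := by rw [hL, conj_act _ (hm1 _), his]; simp [pb_ss hs, pb_symm b s, hsb]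
  have hz0s : z₀ s = s := by simp only [z₀, LinearEquiv.mul_apply, hUs, hLs]
  -- modulo the point the square of the element is minus the identity
  let K := F ∙ s
  have hK : ∀ r : F, r • s ∈ K := fun r => Submodule.smul_mem _ _ (Submodule.mem_span_singleton_self s)
  have hUb : ∃ r : F, U b = b + r • s := ⟨_, eich_perp hs (hm1 _) hsb⟩
  have hUe : ∃ r : F, U (m b) = m b + b + r • s := by
    refine ⟨pb Q ((-a⁻¹) • b) (m b) - Q ((-a⁻¹) • b) * a, ?_⟩
    rw [hU, eich_apply hs (hm1 _), ← had, smul_smul, show a * (-a⁻¹) = -1 by rw [mul_neg, mul_inv_cancel₀ he], neg_smul, one_smul,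
      sub_neg_eq_add]
  have hLe : ∃ r : F, L (m b) = m b + r • s := by
    refine ⟨(pb Q (c⁻¹ • b) b - Q (c⁻¹ • b) * 0) * α, ?_⟩
    rw [hL, conj_act _ (hm1 _), inv_apply, hsb, zero_smul, sub_zero]
  have hLb : ∃ r : F, L b = b - m b + r • s := by
    refine ⟨(pb Q (c⁻¹ • b) (m⁻¹ b) - Q (c⁻¹ • b) * c) * α, ?_⟩
    rw [hL, conj_act _ (hm1 _), ← hcd, map_smul, smul_smul, mul_inv_cancel₀ hc, one_smul]
  obtain ⟨r1, hr1⟩ := hUb
  obtain ⟨r2, hr2⟩ := hUe
  obtain ⟨r3, hr3⟩ := hLe
  obtain ⟨r4, hr4⟩ := hLb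
  have hzb : ∃ r : F, z₀ b = -m b + r • s := by
    refine ⟨r1 - r2 + r4 + r1, ?_⟩
    simp only [z₀, LinearEquiv.mul_apply, hr1, map_add, map_smul, map_sub, hr4, hUs, hLs, hr2]
    module
  have hze : ∃ r : F, z₀ (m b) = b + r • s := by
    refine ⟨r2 + r4 + r3 + r1, ?_⟩
    simp only [z₀, LinearEquiv.mul_apply, hr2, map_add, map_smul, map_sub, hr3, hr4, hUs, hLs, hr1]
    module
  obtain ⟨r5, hr5⟩ := hzb
  obtain ⟨r6, hr6⟩ := hze
  have hzs : z s = s := by rw [hzd, LinearEquiv.mul_apply, hz0s, hz0s]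
  have hzneg : ∀ x, ∃ r : F, z x = -x + r • s := by
    intro x
    obtain ⟨u, v, huv⟩ := hline (x - (pb Q s x / a) • m b)
      (by rw [map_sub, map_smul, smul_eq_mul, ← had, div_mul_cancel₀ _ he, sub_self])
    rw [sub_eq_iff_eq_add] at huv
    generalize pb Q s x / a = κ at huv
    refine ⟨(u * (r5 - r6) + κ * (r5 + r6)) + 2 * v, ?_⟩
    rw [hzd, huv]
    simp only [LinearEquiv.mul_apply, map_add, map_smul, map_neg, hr5, hr6, hz0s]
    module
  have hzi : ∀ x, ∃ r : F, z⁻¹ x = -x + r • s := fun x => by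
    obtain ⟨r, hr⟩ := hzneg x
    have his : z⁻¹ s = s := by conv_lhs => rw [← hzs, inv_apply]
    refine ⟨r, ?_⟩
    have := congrArg (fun v => (z⁻¹ : V ≃ₗ[F] V) v) hr
    simp only [inv_apply, map_add, map_neg, map_smul, his] at this
    rw [eq_comm, ← sub_eq_zero] at this
    rw [← sub_eq_zero, ← neg_eq_zero, ← this]
    abel
  -- it commutes with an Eichler element
  set e := eich Q s b
  have heM : e ∈ M := eich_memM hD hs hsb
  set d := z * e * z⁻¹ * e⁻¹ with hdd
  have hes : e s = s := eich_self hs hsb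
  have hei : ∀ y, e⁻¹ y = eich Q s (-b) y := fun y => by rw [eich_inv hs hsb]
  have hdx : ∀ x, ∃ r : F, d x = x + r • s := fun x => by
    obtain ⟨r, hr⟩ := hzi (e⁻¹ x)
    obtain ⟨r', hr'⟩ := hzneg x
    refine ⟨r - r', ?_⟩
    simp only [hdd, LinearEquiv.mul_apply, hr, map_add, map_neg, map_smul, apply_inv, hes, hzs, hr']
    module
  have hds : d s = s := by
    have hzis : z⁻¹ s = s := by conv_lhs => rw [← hzs, inv_apply]
    have heis : e⁻¹ s = s := by conv_lhs => rw [← hes, inv_apply]
    simp only [hdd, LinearEquiv.mul_apply, heis, hzis, hes, hzs]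
  have hd1 : d = 1 := by
    obtain ⟨y, hy, ey⟩ := flag_mem h hs hs0 (l := s) (pb_ss hs) (g := d)
      (mul_mem (mul_mem (mul_mem hzM heM) (inv_mem hzM)) (inv_mem heM)) hds (fun x _ => by
        obtain ⟨r, hr⟩ := hdx x
        rw [hr, add_sub_cancel_left]; exact Submodule.smul_mem _ _ (Submodule.subset_span (by simp)))
      (by rw [hds, sub_self]; exact zero_mem _) (fun x => by
        obtain ⟨r, hr⟩ := hdx x
        rw [hr, map_add, map_smul, pb_ss hs, smul_zero, add_zero])
    obtain ⟨r, hr⟩ := hdx t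
    rw [ey, eich_apply hs hy, hst, one_smul, mul_one] at hr
    have hy' : y = 0 + ((pb Q y t - Q y) - r) • s := by
      rw [zero_add, sub_smul, eq_sub_iff_add_eq]
      rw [← sub_eq_zero] at hr
      rw [← sub_eq_zero, ← neg_eq_zero, ← hr]
      abel
    rw [ey, hy', eich_add_smul hs (map_zero _), eich_zero hs]
  have hcomm : ∀ x, z (e x) = e (z x) := fun x => by
    have : z * e = e * z := by rwa [hdd, mul_inv_eq_one, mul_inv_eq_iff_eq_mul] at hd1
    exact LinearEquiv.congr_fun this x
  -- but then the Eichler element would be a transvection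
  obtain ⟨r, hr⟩ := hzneg t
  have h2 : (2 : F) * 2⁻¹ = 1 := mul_inv_cancel₀ h.two
  set t' := t - (r * 2⁻¹) • s with ht'
  have hzt' : z t' = -t' := by
    rw [ht', map_sub, map_smul, hr, hzs]
    have : r • s = (2 * (r * 2⁻¹)) • s := by rw [show 2 * (r * 2⁻¹) = r by linear_combination r * h2]
    rw [this]; module
  have hN1 : e t' - t' = -b + (pb Q b t - Q b) • s := by
    rw [ht', map_sub, map_smul, hes, eich_apply hs hsb, hst]
    module
  have hN2 : e (e t' - t') - (e t' - t') = (-(2 * Q b)) • s := by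
    rw [hN1, map_add, map_neg, map_smul, hes, eich_perp hs hsb hsb, pb_self]
    module
  have hz2 : z (e (e t' - t') - (e t' - t')) = -(e (e t' - t') - (e t' - t')) := by
    simp only [map_sub, hcomm, hzt', map_neg]
    abel
  rw [hN2, map_smul, hzs, eq_neg_iff_add_eq_zero, ← add_smul, smul_eq_zero, or_iff_left hs0] at hz2
  exact mul_ne_zero h.two (mul_ne_zero h.two hb) (by linear_combination -hz2)

/-- an element of the overgroup sends tangent hyperplanes of singular points to tangent hyperplanes -/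
theorem map_perp (h : Small Q M) (hs : Q s = 0) (hs0 : s ≠ 0) {g : V ≃ₗ[F] V} (hg : g ∈ M) :
    Q (g s) = 0 ∧ ∀ x, pb Q s x = 0 → pb Q (g s) (g x) = 0 := by
  have hD := h.toData
  set v := g s with hv
  have hv0 : v ≠ 0 := fun e => hs0 (g.injective (by rw [← hv, e, map_zero]))
  by_cases hQ : Q v = 0
  · obtain ⟨k, hk, hkM, a, ha, hks⟩ := exists_move hD hs0 hv0 hs hQ
    refine ⟨hQ, fun x hx => ?_⟩
    have hi : (k⁻¹ * g) s = a⁻¹ • s := by
      have := congrArg (fun w => (k⁻¹ : V ≃ₗ[F] V) w) hks
      simp only [inv_apply, map_smul] at this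
      rw [LinearEquiv.mul_apply, ← hv, eq_inv_smul_iff₀ ha]
      exact this.symm
    have e1 := fix_perp h hs hs0 (mul_mem (inv_mem hkM) hg) hi x hx
    rw [LinearEquiv.mul_apply, ← pb_iso hk s, apply_inv, hks, map_smul, LinearMap.smul_apply, smul_eq_mul, mul_eq_zero] at e1
    exact e1.resolve_left ha
  -- an anisotropic image is impossible
  exfalso
  obtain ⟨t, ht, hst⟩ := exists_partner hD hs hs0
  obtain ⟨b, hsb, htb, hb⟩ := exists_core hD hs ht hst
  have hvv : pb Q v v ≠ 0 := by rw [pb_self]; exact mul_ne_zero h.two hQ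
  -- the elements moved from the special orthogonal group
  have move : ∀ k ∈ M, k v = -v → ∀ x, pb Q s x = 0 → pb Q s (g⁻¹ (k (g x))) = 0 := fun k hk hkv x hx =>
    fix_perp h hs hs0 (m := g⁻¹ * k * g) (mul_mem (mul_mem (inv_mem hg) hk) hg) (α := -1)
      (by rw [LinearEquiv.mul_apply, LinearEquiv.mul_apply, ← hv, hkv, map_neg, hv, inv_apply, neg_one_smul]) x hx
  -- the hyperplane through the image
  obtain ⟨η, hη⟩ := exists_repr hD ((pb Q s).comp (g⁻¹ : V ≃ₗ[F] V).toLinearMap)
  have hη' : ∀ x, pb Q η x = pb Q s (g⁻¹ x) := fun x => LinearMap.congr_fun hη x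
  have hηv : pb Q η v = 0 := by rw [hη', hv, inv_apply, pb_ss hs]
  have hη0 : η ≠ 0 := fun e => by
    have := hη' (g t)
    rw [e, map_zero, LinearMap.zero_apply, inv_apply, hst] at this
    exact zero_ne_one this
  -- a reflection keeping the hyperplane
  have hrefl : ∀ a (ha : Q a ≠ 0), pb Q a v = 0 → ∀ x, pb Q η x = 0 → pb Q η (Quad.refl hQ (Quad.refl ha x)) = 0 := by
    intro a ha hav x hx
    have := move (Quad.refl hQ * Quad.refl ha) (refl_mul_memM hD hQ ha) (by
      rw [LinearEquiv.mul_apply, Quad.refl_fix ha (by rw [← pb_apply, pb_symm, hav]), Quad.refl_neg]) (g⁻¹ x) (by rw [← hη', hx])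
    rwa [apply_inv, LinearEquiv.mul_apply, ← hη'] at this
  have hkill : ∀ a, Q a ≠ 0 → pb Q a v = 0 → ∀ x, pb Q η x = 0 → pb Q x a = 0 ∨ pb Q η a = 0 := by
    intro a ha hav x hx
    have := hrefl a ha hav x hx
    rw [Quad.refl_apply, map_sub, map_smul, hηv, smul_zero, sub_zero, Quad.refl_apply, map_sub, map_smul, hx, zero_sub,
      neg_eq_zero, smul_eq_zero, div_eq_zero_iff] at this
    rcases this with (e | e) | e
    exacts [Or.inl e, absurd e ha, Or.inr e]
  by_cases hQη : Q η = 0
  · -- the normal is singular, so some anisotropic vector orthogonal to the image is not orthogonal to it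
    obtain ⟨w, hw, hw'⟩ := Quad.exists_perp h.nd (S := Submodule.span F ({v} : Set V)) (x := η) (fun hm => by
      obtain ⟨c, hc⟩ := Submodule.mem_span_singleton.1 hm
      rw [← hc, map_smul, LinearMap.smul_apply, smul_eq_mul, mul_eq_zero] at hηv
      exact hηv.elim (fun e => hη0 (by rw [← hc, e, zero_smul])) hvv)
    have hvw : pb Q v w = 0 := hw v (Submodule.mem_span_singleton_self v)
    have hηw : pb Q η w = 1 := hw'
    obtain ⟨a, ha, hav, hηa⟩ : ∃ a, Q a ≠ 0 ∧ pb Q a v = 0 ∧ pb Q η a ≠ 0 := by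
      by_cases hQw : Q w = 0
      · refine ⟨w + η, ?_, ?_, ?_⟩
        · rw [q_add, hQw, hQη, pb_symm w η, hηw]; simp
        · rw [map_add, LinearMap.add_apply, pb_symm w, hvw, hηv, add_zero]
        · rw [map_add, hηw, pb_ss hQη, add_zero]; exact one_ne_zero
      · exact ⟨w, hQw, by rw [pb_symm, hvw], by rw [hηw]; exact one_ne_zero⟩
    rcases hkill a ha hav η (pb_ss hQη) with e | e <;> exact hηa e
  have hηη : pb Q η η ≠ 0 := by rw [pb_self]; exact mul_ne_zero h.two hQη
  have hvη : pb Q v η = 0 := by rw [pb_symm, hηv]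
  by_cases hdim : finrank F V ≤ 3
  · -- in dimension three the line meets the polar of the image in an anisotropic vector
    obtain ⟨y, hy0, hy⟩ := exists_perp_ne hD [v, η] (by have := h.dim; simp only [List.length_cons, List.length_nil]; omega)
    have hvy : pb Q v y = 0 := hy v (by simp)
    have hηy : pb Q η y = 0 := hy η (by simp)
    have hind : LinearIndependent F ![v, η, y] := by
      rw [Fintype.linearIndependent_iff]
      intro c hc
      simp [Fin.sum_univ_three] at hc
      have c0 : c 0 = 0 := by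
        have := congrArg (pb Q v) hc
        simpa [map_add, map_smul, hvη, hvy, hvv] using this
      have c1 : c 1 = 0 := by
        have := congrArg (pb Q η) hc
        simpa [map_add, map_smul, hηv, hηy, hηη] using this
      rw [c0, c1] at hc
      simp [hy0] at hc
      intro i; fin_cases i
      exacts [c0, c1, hc]
    have hspan : Submodule.span F (Set.range ![v, η, y]) = ⊤ :=
      hind.span_eq_top_of_card_eq_finrank (by rw [Fintype.card_fin]; have := h.dim; omega)
    have hQy : Q y ≠ 0 := fun e => hy0 (eq_zero hD fun x => by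
      have hm : x ∈ Submodule.span F (Set.range ![v, η, y]) := hspan ▸ Submodule.mem_top
      refine (Submodule.span_le.2 ?_ : _ ≤ LinearMap.ker (pb Q y)) hm
      rintro _ ⟨i, rfl⟩
      fin_cases i
      exacts [by show pb Q y v = 0; rw [pb_symm, hvy], by show pb Q y η = 0; rw [pb_symm, hηy],
        by show pb Q y y = 0; rw [pb_self, e, mul_zero]])
    set k := Quad.refl hQ * Quad.refl hQy with hk
    have hkM : k ∈ M := refl_mul_memM hD hQ hQy
    have hkv : k v = -v := by rw [hk, LinearEquiv.mul_apply, Quad.refl_fix hQy hvy, Quad.refl_neg]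
    have hky : k y = -y := by rw [hk, LinearEquiv.mul_apply, Quad.refl_neg, map_neg, Quad.refl_fix hQ (by rw [← pb_apply, pb_symm, hvy])]
    have hkη : k η = η := by rw [hk, LinearEquiv.mul_apply, Quad.refl_fix hQy hηy, Quad.refl_fix hQ (by rw [← pb_apply, hηv])]
    set m := g⁻¹ * k * g with hmd
    set x0 := g⁻¹ y with hx0
    set z0 := g⁻¹ η with hz0
    have hms : m s = -s := by rw [hmd, LinearEquiv.mul_apply, LinearEquiv.mul_apply, ← hv, hkv, map_neg, hv, inv_apply]
    have hmx : m x0 = -x0 := by rw [hmd, LinearEquiv.mul_apply, LinearEquiv.mul_apply, hx0, apply_inv, hky, map_neg]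
    have hmz : m z0 = z0 := by rw [hmd, LinearEquiv.mul_apply, LinearEquiv.mul_apply, hz0, apply_inv, hkη]
    have hmM : m ∈ M := mul_mem (mul_mem (inv_mem hg) hkM) hg
    have hsx : pb Q s x0 = 0 := by rw [hx0, ← hη', hηy]
    have hsz : pb Q s z0 = pb Q η η := by rw [hz0, ← hη']
    have hx0s : ∀ c : F, x0 ≠ c • s := fun c e => by
      have : y = c • v := by rw [hv, ← map_smul, ← e, hx0, apply_inv]
      rw [this, map_smul, smul_eq_mul, mul_eq_zero, or_iff_left hvv] at hvy
      exact hy0 (by rw [this, hvy, zero_smul])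
    have hQx : Q x0 ≠ 0 := fun e => by
      obtain ⟨c, hc⟩ := mem_span_of_perp hD hs hs0 (x := x0) fun x hx => by
        have hli : LinearIndependent F ![x0, s] := by
          rw [LinearIndependent.pair_iff]
          intro c d hcd
          by_cases hc : c = 0
          · refine ⟨hc, ?_⟩
            rw [hc, zero_smul, zero_add, smul_eq_zero] at hcd
            exact hcd.resolve_right hs0
          · exact absurd (by rw [neg_mul, neg_smul, mul_smul, eq_neg_of_add_eq_zero_right hcd, smul_neg, neg_neg, inv_smul_smul₀ hc] :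
              x0 = (-c⁻¹ * d) • s) (hx0s _)
        have h2 : finrank F (Submodule.span F (Set.range ![x0, s])) = 2 := by
          rw [finrank_span_eq_card hli, Fintype.card_fin]
        have hle : Submodule.span F (Set.range ![x0, s]) ≤ LinearMap.ker (pb Q s) := by
          rw [Submodule.span_le]; rintro _ ⟨i, rfl⟩; fin_cases i
          exacts [hsx, pb_ss hs]
        have hk1 : finrank F (LinearMap.ker (pb Q s)) < 3 := by
          refine lt_of_lt_of_le (Submodule.finrank_lt (lt_top_iff_ne_top.2 fun e => ?_).ne) hdim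
          have : t ∈ LinearMap.ker (pb Q s) := e ▸ Submodule.mem_top
          rw [LinearMap.mem_ker, hst] at this
          exact one_ne_zero this
        have hm : x ∈ Submodule.span F (Set.range ![x0, s]) :=
          (Submodule.eq_of_le_of_finrank_le hle (by omega)).ge hx
        refine (Submodule.span_le.2 ?_ : _ ≤ LinearMap.ker (pb Q x0)) hm
        rintro _ ⟨i, rfl⟩; fin_cases i
        exacts [by show pb Q x0 x0 = 0; rw [pb_self, e, mul_zero], by show pb Q x0 s = 0; rw [pb_symm, hsx]]
      exact hx0s c hc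
    have conj : m * eich Q s x0 * m⁻¹ ∈ eGroup hs := by
      have hperp := fix_perp h hs hs0 hmM (α := -1) (by rw [hms, neg_one_smul])
      have hiperp : ∀ x, pb Q s x = 0 → pb Q s (m⁻¹ x) = 0 := fix_perp h hs hs0 (inv_mem hmM) (α := -1) (by
        have := congrArg (fun w => (m⁻¹ : V ≃ₗ[F] V) w) hms
        simp only [inv_apply, map_neg] at this
        rw [neg_one_smul]; exact neg_eq_iff_eq_neg.1 this.symm)
      have act : ∀ x, (m * eich Q s x0 * m⁻¹) x =
          x + pb Q s (m⁻¹ x) • x0 + (-(pb Q x0 (m⁻¹ x) - Q x0 * pb Q s (m⁻¹ x))) • s := fun x => by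
        rw [LinearEquiv.mul_apply, LinearEquiv.mul_apply, eich_apply hs hsx, map_add, map_sub, map_smul, map_smul, apply_inv, hms, hmx]
        module
      refine flag_mem h hs hs0 (l := s) (pb_ss hs) (mul_mem (mul_mem hmM (eich_memM hD hs hsx)) (inv_mem hmM))
        ?_ (fun x hx => ?_) ?_ (fun x => ?_)
      · rw [act, hiperp s (pb_ss hs)]
        have : pb Q x0 (m⁻¹ s) = 0 := by
          have e := congrArg (fun w => (m⁻¹ : V ≃ₗ[F] V) w) hms
          simp only [inv_apply, map_neg] at e
          rw [← neg_eq_iff_eq_neg.2 e, map_neg, pb_symm, hsx, neg_zero]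
        rw [this]; simp
      · rw [act, hiperp x hx, zero_smul, add_zero, add_sub_cancel_left]
        exact Submodule.smul_mem _ _ (Submodule.subset_span (by simp))
      · rw [act, hiperp s (pb_ss hs), zero_smul, add_zero, add_sub_cancel_left]
        exact Submodule.smul_mem _ _ (Submodule.mem_span_singleton_self s)
      · rw [act, map_add, map_add, map_smul, map_smul, hsx, pb_ss hs]; simp
    obtain ⟨y', hy', ey⟩ := conj
    have hap : ∀ x, m (eich Q s x0 x) = eich Q s y' (m x) := fun x => by
      rw [← ey, conj_apply]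
    have e1 := hap x0
    rw [eich_perp hs hsx hsx, map_add, map_smul, hms, hmx, eich_perp hs hy' (by rw [map_neg, hsx, neg_zero]), map_neg,
      add_right_inj, smul_neg, ← neg_smul] at e1
    have hxy : pb Q y' x0 = pb Q x0 x0 := by
      have := smul_left_injective F hs0 e1
      linear_combination this
    have e2 := congrArg (pb Q x0) (hap z0)
    rw [hmz, eich_apply hs hsx, eich_apply hs hy', map_add, map_sub, map_smul, map_smul, hms, hmx, hmz, hsz] at e2
    simp only [map_add, map_sub, map_neg, map_smul, smul_eq_mul, pb_symm x0 y', hxy, pb_symm x0 s, hsx, neg_zero, mul_zero,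
      add_zero, mul_neg, sub_neg_eq_add] at e2
    refine mul_ne_zero h.two hQx ?_
    have : pb Q η η * pb Q x0 x0 * 2 = 0 := by linear_combination e2
    rw [← pb_self]
    exact ((mul_eq_zero.1 ((mul_eq_zero.1 this).resolve_right h.two))).resolve_left hηη
  · -- in dimension four some anisotropic vector is neither orthogonal nor parallel
    obtain ⟨y₁, hy10, hy1⟩ := exists_perp_ne hD [v, η] (by simp only [List.length_cons, List.length_nil]; omega)
    obtain ⟨y₂, hy20, hy2⟩ := exists_perp_ne hD [v, η, y₁] (by simp only [List.length_cons, List.length_nil]; omega)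
    have p1 : pb Q v y₁ = 0 ∧ pb Q η y₁ = 0 := ⟨hy1 v (by simp), hy1 η (by simp)⟩
    have p2 : pb Q v y₂ = 0 ∧ pb Q η y₂ = 0 ∧ pb Q y₁ y₂ = 0 := ⟨hy2 v (by simp), hy2 η (by simp), hy2 y₁ (by simp)⟩
    obtain ⟨y, hvy, hηy, hy0, hQ'⟩ : ∃ y, pb Q v y = 0 ∧ pb Q η y = 0 ∧ y ≠ 0 ∧ Q (η + y) ≠ 0 := by
      by_cases h1 : Q (η + y₁) = 0
      swap
      · exact ⟨y₁, p1.1, p1.2, hy10, h1⟩
      by_cases h2 : Q (η + y₂) = 0
      swap
      · exact ⟨y₂, p2.1, p2.2.1, hy20, h2⟩
      rw [q_add, p1.2] at h1
      rw [q_add, p2.2.1] at h2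
      have hQ1 : Q y₁ ≠ 0 := fun e => hQη (by linear_combination h1 - e)
      refine ⟨y₁ + y₂, by rw [map_add, p1.1, p2.1, add_zero], by rw [map_add, p1.2, p2.2.1, add_zero], fun e => ?_, ?_⟩
      · have := congrArg (pb Q y₁) e
        rw [map_add, p2.2.2, add_zero, map_zero, pb_self] at this
        exact mul_ne_zero h.two hQ1 this
      · rw [q_add, q_add, map_add, p1.2, p2.2.1, p2.2.2]
        intro e
        exact hQη (by linear_combination h1 + h2 - e)
    have hav : pb Q (η + y) v = 0 := by rw [map_add, LinearMap.add_apply, hηv, pb_symm y v, hvy, add_zero]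
    -- a vector of the hyperplane not orthogonal to the sum
    obtain ⟨w, hw, hw'⟩ := Quad.exists_perp h.nd (S := Submodule.span F ({η} : Set V)) (x := η + y) (fun hm => by
      obtain ⟨c, hc⟩ := Submodule.mem_span_singleton.1 hm
      have := congrArg (pb Q η) hc
      rw [map_smul, map_add, hηy, add_zero, smul_eq_mul, mul_left_eq_self₀, or_iff_left hηη] at this
      rw [this, one_smul, left_eq_add] at hc
      exact hy0 hc)
    rcases hkill (η + y) hQ' hav w (hw η (Submodule.mem_span_singleton_self η)) with e | e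
    · rw [pb_symm, show pb Q (η + y) w = 1 from hw'] at e
      exact one_ne_zero e
    · rw [map_add, hηy, add_zero] at e
      exact hηη e

/-- an overgroup with a non-similarity contains every transvection -/
theorem all_transvections (hD : Data Q M) (hle : finrank F V ≤ 4) (hex : ∃ s : V, s ≠ 0 ∧ Q s = 0) {g : V ≃ₗ[F] V} (hg : g ∈ M)
    (hns : ¬ ∃ c : F, ∀ x, Q (g x) = c * Q x) : ∀ (φ : Dual F V) (v : V), φ v = 0 → tvec φ v ∈ M := by
  obtain ⟨p, hp⟩ := CharP.exists F
  haveI : Fact p.Prime := ⟨CharP.char_is_prime F p⟩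
  by_cases hno : NoT Q M
  swap
  · simp only [NoT, not_forall] at hno
    obtain ⟨s, hs0, hs, c, hc, hc0⟩ := hno
    exact all_of_full hD inferInstance hs hs0 (full_of_one hD hs hs0 hc0 hc)
  exfalso
  have h : Small Q M := { hD with le_four := hle, noT := hno }
  obtain ⟨s, hs0, hs⟩ := hex
  let G : V →ₗ[F] V →ₗ[F] F := (pb Q).compl₁₂ g.toLinearMap g.toLinearMap
  have hG : ∀ x y, G x y = pb Q (g x) (g y) := fun x y => rfl
  let rel : V → F → Prop := fun r μ => ∀ x, G r x = μ * pb Q r x
  have hrel : ∀ r, Q r = 0 → r ≠ 0 → ∃ μ, rel r μ := fun r hr hr0 => by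
    obtain ⟨t, ht, hrt⟩ := exists_partner hD hr hr0
    refine ⟨G r t, fun x => ?_⟩
    have := (map_perp h hr hr0 hg).2 (x - pb Q r x • t) (by rw [map_sub, map_smul, hrt, smul_eq_mul, mul_one, sub_self])
    rw [map_sub, map_smul, map_sub, map_smul, ← hG, ← hG, smul_eq_mul] at this
    linear_combination this
  obtain ⟨μ, hμ⟩ := hrel s hs hs0
  have hall : ∀ r, Q r = 0 → rel r μ := fun r hr => by
    rcases eq_or_ne r 0 with rfl | hr0
    · intro x; simp
    refine transfer hD (P := fun r => rel r μ) ?_ hs0 hr0 hs hr hμ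
    intro a b _ hb0 _ hb hab ha
    obtain ⟨ν, hν⟩ := hrel b hb hb0
    have e1 := ha b
    have e2 := hν a
    rw [hG] at e1 e2
    rw [pb_symm, pb_symm b a, e1] at e2
    rw [← mul_right_cancel₀ hab e2] at hν
    exact hν
  refine hns ⟨μ, fun x => ?_⟩
  have := singular_induction hD (P := fun r => rel r μ) (fun a b ha hb y => by
    rw [map_add, map_add, LinearMap.add_apply, LinearMap.add_apply, ha, hb]; ring) hall hs hs0 x x
  rw [hG, pb_self, pb_self] at this
  exact mul_left_cancel₀ h.two (by linear_combination this)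

/-- For a finite field F of odd order and n = 3 or 4, let Q be a non-degenerate quadratic form on F^n. Then the elements of
SL_n(F) that are similarities of Q form a maximal subgroup of SL_n(F). -/
theorem isMaximal {F : Type*} [Field F] [Fintype F] (n : ℕ) (hn : 3 ≤ n) (hn4 : n ≤ 4) (hodd : Odd (Fintype.card F))
    (Q : (Fin n → F) → F) (hQ : Cfsg.Geo.IsNondegenerateQuadraticForm Q) :
    Cfsg.Geo.IsMaximalIn (Cfsg.Geo.specialLinear (Fin n) F) (Cfsg.Geo.quadSimilarityGroup Q ⊓ Cfsg.Geo.specialLinear (Fin n) F) := by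
  classical
  have hcard : Fintype.card F % 2 = 1 := Nat.odd_iff.1 hodd
  have two : (2 : F) ≠ 0 := Ring.two_ne_zero fun h => by
    have : CharP F 2 := ringChar.eq_iff.1 h
    have := FiniteField.even_card_of_char_two (F := F) h
    omega
  let q : QuadraticForm F (Fin n → F) := QuadraticMap.ofPolar Q
    (fun a x => by rw [hQ.smul, smul_eq_mul, pow_two])
    hQ.polar_bilinear.add_left
    (fun a x y => by rw [hQ.polar_bilinear.smul_left, smul_eq_mul])
  have nd : (polarBilin q).Nondegenerate :=
    ⟨fun x hx => by_contra fun h => (hQ.nondegenerate x h).2.elim fun y hy => hy (hx y),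
      fun x hx => by_contra fun h => (hQ.nondegenerate x h).1.elim fun y hy => hy (hx y)⟩
  have val : ∀ a b c : F, a ≠ 0 → b ≠ 0 → ∃ x y : F, a * x ^ 2 + b * y ^ 2 = c := fun a b c ha hb => by
    obtain ⟨x, y, hxy⟩ := FiniteField.exists_root_sum_quadratic
      (f := Polynomial.C a * Polynomial.X ^ 2) (g := Polynomial.C b * Polynomial.X ^ 2 + Polynomial.C (-c))
      (by rw [Polynomial.degree_C_mul_X_pow 2 ha]; rfl)
      (by rw [Polynomial.degree_add_eq_left_of_degree_lt, Polynomial.degree_C_mul_X_pow 2 hb]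
          · rfl
          · rw [Polynomial.degree_C_mul_X_pow 2 hb]
            exact lt_of_le_of_lt Polynomial.degree_C_le (by decide)) hcard
    exact ⟨x, y, by simp at hxy; linear_combination hxy⟩
  have hdim : Module.finrank F (Fin n → F) = n := Module.finrank_fin_fun F
  have htop : Data q (⊤ : Subgroup ((Fin n → F) ≃ₗ[F] (Fin n → F))) :=
    ⟨two, nd, by omega, val, fun _ _ _ => Subgroup.mem_top _⟩
  obtain ⟨a, hQa⟩ : ∃ a, q a ≠ 0 := by
    by_contra! hc
    obtain ⟨x, hx⟩ : ∃ x : Fin n → F, x ≠ 0 := ⟨fun _ => 1, fun e => one_ne_zero (congrFun e ⟨0, by omega⟩)⟩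
    refine hx (eq_zero htop fun y => ?_)
    have := q_add (Q := q) x y
    rw [hc, hc, hc] at this
    linear_combination -this
  -- a singular vector
  obtain ⟨p, hp0, hQp⟩ : ∃ p, p ≠ 0 ∧ q p = 0 := by
    obtain ⟨b, hb0, hb⟩ := exists_perp_ne htop [a] (by simp only [List.length_cons, List.length_nil]; omega)
    by_cases hQb : q b = 0
    · exact ⟨b, hb0, hQb⟩
    obtain ⟨c, hc0, hc⟩ := exists_perp_ne htop [a, b] (by simp only [List.length_cons, List.length_nil]; omega)
    by_cases hQc : q c = 0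
    · exact ⟨c, hc0, hQc⟩
    obtain ⟨x, y, hxy⟩ := val _ _ (-q c) hQa hQb
    have hab : pb q a b = 0 := hb a (by simp)
    have hac : pb q a c = 0 := hc a (by simp)
    have hbc : pb q b c = 0 := hc b (by simp)
    refine ⟨x • a + y • b + c, fun h => hQc ?_, ?_⟩
    · have := congrArg (fun u => pb q u c) h
      simp only [map_add, LinearMap.add_apply, map_smul, LinearMap.smul_apply, hbc, hac, smul_eq_mul, mul_zero, zero_add,
        map_zero, LinearMap.zero_apply, pb_self] at this
      exact (mul_eq_zero.1 this).resolve_left two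
    · rw [q_add, q_add, q_smul, q_smul]
      simp only [map_add, LinearMap.add_apply, map_smul, LinearMap.smul_apply, hab, hbc, hac, smul_eq_mul, mul_zero, add_zero]
      linear_combination hxy
  refine isMaximalIn_specialLinear _ ?_ fun M hK hg => ?_
  · have hpp : (pb q p) p = 0 := pb_ss hQp
    refine ⟨pb q p, p, hpp, fun hmem => ?_⟩
    obtain ⟨c, hc⟩ := hmem
    have key : ∀ v, (1 - (c : F)) * q v + pb q p v * pb q v p = 0 := fun v => by
      have := hc v
      rw [symm_mulVec, tvec_apply hpp] at this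
      change q (v + pb q p v • p) = (c : F) * q v at this
      rw [q_add, q_smul, hQp, map_smul, smul_eq_mul] at this
      linear_combination this
    obtain ⟨t, ht, hpt⟩ := exists_partner htop hQp hp0
    have := key t
    rw [ht, hpt, pb_symm t p, hpt] at this
    simp at this
  · have hSO : ∀ g ∈ Quad.oG q, LinearMap.det g.toLinearMap = 1 → g ∈ M := fun g hg hd => by
      have := hK ((glEquiv (Fin n) F).symm g) ⟨⟨1, fun v => by
          rw [symm_mulVec, Units.val_one, one_mul]; exact hg v⟩,
        (mem_specialLinear_iff _).2 (by rw [MulEquiv.apply_symm_apply]; exact hd)⟩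
      rwa [MulEquiv.apply_symm_apply] at this
    obtain ⟨g, hgK, hgM⟩ := hg
    refine all_transvections ⟨two, nd, by omega, val, hSO⟩ (by omega) ⟨p, hp0, hQp⟩ hgM fun ⟨c, hc⟩ => hgK ?_
    have hc0 : c ≠ 0 := fun h => by
      obtain ⟨b, rfl⟩ := (glEquiv (Fin n) F g).surjective a
      exact hQa (by rw [hc, h, zero_mul])
    exact ⟨Units.mk0 c hc0, fun v => hc v⟩

end Cfsg.Agent.ClassicalMax.SmallForm.Orth
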