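import Cfsg.Agent.ClassicalMax.SmallForm.OrthBasic

/-!
Orthogonal forms in dimension at most four: if an overgroup of the special orthogonal group contains no transvection
with singular centre and tangent axis, the Eichler elements at a singular point form one of its maximal
`p`-subgroups.
-/

set_option autoImplicit false

namespace Cfsg.Agent.ClassicalMax.SmallForm.Orth

open Module QuadraticMap Cfsg.Agent.Classical Cfsg.Agent.ClassicalMax

variable {F V : Type*} [Field F] [AddCommGroup V] [Module F V] {Q : QuadraticForm F V} {s : V}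

/-- the Eichler group at a singular vector -/
def eGroup (hs : Q s = 0) : Subgroup (V ≃ₗ[F] V) where
  carrier := {g | ∃ y, pb Q s y = 0 ∧ g = eich Q s y}
  mul_mem' := by
    rintro _ _ ⟨y, hy, rfl⟩ ⟨z, hz, rfl⟩
    exact ⟨y + z, by rw [map_add, hy, hz, add_zero], eich_mul hs hy hz⟩
  one_mem' := ⟨0, map_zero _, (eich_zero hs).symm⟩
  inv_mem' := by
    rintro _ ⟨y, hy, rfl⟩
    exact ⟨-y, by rw [map_neg, hy, neg_zero], eich_inv hs hy⟩

theorem eich_mem_eGroup (hs : Q s = 0) {y : V} (hy : pb Q s y = 0) : eich Q s y ∈ eGroup hs := ⟨y, hy, rfl⟩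

variable {p : ℕ} [Fact p.Prime] [CharP F p]

theorem pow_eq_one_of_nilp [Nontrivial V] (g : V ≃ₗ[F] V) {k : ℕ} (hN : ((g.toLinearMap - 1) ^ k : Module.End F V) = 0)
    {m : ℕ} (hm : k ≤ p ^ m) : g ^ p ^ m = 1 := by
  haveI : CharP (Module.End F V) p :=
    charP_of_injective_algebraMap (algebraMap F (Module.End F V)).injective p
  have h0 : ((g.toLinearMap - 1) ^ p ^ m : Module.End F V) = 0 := pow_eq_zero_of_le hm hN
  rw [sub_pow_char_pow_of_commute p m (Commute.one_right (g.toLinearMap : Module.End F V)), one_pow, sub_eq_zero] at h0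
  have hpow : ∀ n : ℕ, ((g ^ n : V ≃ₗ[F] V).toLinearMap : Module.End F V) = (g.toLinearMap : Module.End F V) ^ n := fun n => by
    induction n with
    | zero => rfl
    | succ n ih => rw [pow_succ, pow_succ, ← ih]; rfl
  refine LinearEquiv.ext fun x => ?_
  have := LinearMap.congr_fun ((hpow (p ^ m)).trans h0) x
  exact this

variable [FiniteDimensional F V] {M : Subgroup (V ≃ₗ[F] V)}

theorem nilp_of_pow [Nontrivial V] (u : V ≃ₗ[F] V) {k : ℕ} (hu : u ^ p ^ k = 1) :
    ((u.toLinearMap - 1) ^ p ^ k : Module.End F V) = 0 := by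
  haveI : CharP (Module.End F V) p :=
    charP_of_injective_algebraMap (algebraMap F (Module.End F V)).injective p
  rw [sub_pow_char_pow_of_commute p k (Commute.one_right (u.toLinearMap : Module.End F V)), one_pow, sub_eq_zero]
  have hpow : ∀ n : ℕ, ((u ^ n : V ≃ₗ[F] V).toLinearMap : Module.End F V) = (u.toLinearMap : Module.End F V) ^ n := fun n => by
    induction n with
    | zero => rfl
    | succ n ih => rw [pow_succ, pow_succ, ← ih]; rfl
  rw [← hpow, hu]
  rfl

/-- no transvection with singular centre and tangent axis -/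
def NoT (Q : QuadraticForm F V) (M : Subgroup (V ≃ₗ[F] V)) : Prop :=
  ∀ s : V, s ≠ 0 → Q s = 0 → ∀ c : F, tvec (c • pb Q s) s ∈ M → c = 0

/-- the standing hypotheses in small dimension -/
structure Small (Q : QuadraticForm F V) (M : Subgroup (V ≃ₗ[F] V)) : Prop extends Data Q M where
  le_four : finrank F V ≤ 4
  noT : NoT Q M

variable (h : Small Q M)
include h

theorem normalizer_le (hs : Q s = 0) (hs0 : s ≠ 0) {u : V ≃ₗ[F] V} (huM : u ∈ M) {k : ℕ} (hu : u ^ p ^ k = 1)
    (hn : ∀ y, pb Q s y = 0 → ∃ y', pb Q s y' = 0 ∧ u * eich Q s y = eich Q s y' * u)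
    (hn' : ∀ y', pb Q s y' = 0 → ∃ y, pb Q s y = 0 ∧ u * eich Q s y = eich Q s y' * u) : u ∈ eGroup hs := by
  have hD := h.toData
  obtain ⟨t, ht, hst⟩ := exists_partner hD hs hs0
  obtain ⟨b, hsb, htb, hb⟩ := exists_core hD hs ht hst
  haveI : Nontrivial V := ⟨⟨s, 0, hs0⟩⟩
  have hpt : ∀ {y y' : V}, pb Q s y = 0 → pb Q s y' = 0 → u * eich Q s y = eich Q s y' * u → ∀ x,
      u (x - pb Q s x • y + (pb Q y x - Q y * pb Q s x) • s) =
        u x - pb Q s (u x) • y' + (pb Q y' (u x) - Q y' * pb Q s (u x)) • s := fun {y y'} hy hy' e x => by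
    have := LinearEquiv.congr_fun e x
    rwa [LinearEquiv.mul_apply, LinearEquiv.mul_apply, eich_apply hs hy, eich_apply hs hy'] at this
  -- the point is fixed
  have hfix : ∀ y', pb Q s y' = 0 → pb Q s (u s) • y' = (pb Q y' (u s) - Q y' * pb Q s (u s)) • s := fun y' hy' => by
    obtain ⟨y, hy, e⟩ := hn' y' hy'
    have := hpt hy hy' e s
    rw [pb_ss hs, pb_symm y s, hy] at this
    simp only [zero_smul, mul_zero, sub_zero, add_zero] at this
    rw [sub_add_eq_add_sub, eq_sub_iff_add_eq, add_right_inj] at this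
    exact this
  have hus0 : pb Q s (u s) = 0 := by
    have := congrArg (pb Q b) (hfix b hsb)
    rw [map_smul, map_smul, pb_self, pb_symm b s, hsb, smul_zero, smul_eq_mul, mul_eq_zero] at this
    exact this.resolve_right (mul_ne_zero h.two hb)
  obtain ⟨α, hα⟩ := mem_span_of_perp hD hs hs0 (x := u s) fun y hy => by
    have := hfix y hy
    rw [hus0, zero_smul, mul_zero, sub_zero, eq_comm, smul_eq_zero, or_iff_left hs0] at this
    rwa [pb_symm]
  have hpn : ∀ n : ℕ, (u ^ n) s = α ^ n • s := fun n => by
    induction n with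
    | zero => rw [pow_zero, pow_zero, one_smul]; rfl
    | succ n ih => rw [pow_succ', LinearEquiv.mul_apply, ih, map_smul, hα, smul_smul, ← pow_succ]
  have hone : ∀ a : F, a ^ p ^ k = 1 → a = 1 := fun a ha => by
    have : (a - 1) ^ p ^ k = 0 := by rw [sub_pow_char_pow, ha, one_pow, sub_self]
    exact sub_eq_zero.1 (pow_eq_zero_iff (pow_ne_zero k (Fact.out : p.Prime).ne_zero) |>.1 this)
  have hus : u s = s := by
    rw [hα, hone α (smul_left_injective F hs0 (show α ^ p ^ k • s = (1 : F) • s by rw [← hpn, hu, one_smul]; rfl)), one_smul]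
  -- the tangent hyperplane is fixed
  have hker : ∀ x, pb Q s x = 0 → pb Q s (u x) = 0 := fun x hx => by
    obtain ⟨y, hy, e⟩ := hn' b hsb
    have := congrArg (pb Q b) (hpt hy hsb e x)
    rw [hx] at this
    simp only [zero_smul, sub_zero, mul_zero, map_add, map_sub, map_smul, hus, pb_self, pb_symm b s, hsb, smul_eq_mul,
      add_zero] at this
    have : pb Q s (u x) * (2 * Q b) = 0 := by linear_combination this
    exact (mul_eq_zero.1 this).resolve_right (mul_ne_zero h.two hb)
  set γ := pb Q s (u t) with hγd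
  have hγ : ∀ x, pb Q s (u x) = γ * pb Q s x := fun x => by
    have := hker (x - pb Q s x • t) (by rw [map_sub, map_smul, hst, smul_eq_mul, mul_one, sub_self])
    rw [map_sub, map_smul, map_sub, map_smul, ← hγd, smul_eq_mul] at this
    linear_combination this
  have hγn : ∀ n : ℕ, pb Q s ((u ^ n) t) = γ ^ n := fun n => by
    induction n with
    | zero => rw [pow_zero, pow_zero]; exact hst
    | succ n ih => rw [pow_succ', LinearEquiv.mul_apply, hγ, ih, pow_succ']
  have hγ1 : γ = 1 := hone γ (by rw [← hγn, hu]; exact hst)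
  -- the section is acted on by an isometry
  have hmod : ∀ {y y' : V}, pb Q s y = 0 → pb Q s y' = 0 → u * eich Q s y = eich Q s y' * u →
      u y = y' + (pb Q y t - Q y - (pb Q y' (u t) - Q y')) • s := fun {y y'} hy hy' e => by
    have := hpt hy hy' e t
    rw [hst, hγ t, hγ1, hst, map_add, map_sub, map_smul, map_smul, hus] at this
    simp only [one_smul, mul_one] at this
    rw [sub_smul (pb Q y t - Q y)]
    have e2 : u y = u t - (u t - y' + (pb Q y' (u t) - Q y') • s) + (pb Q y t - Q y) • s := by
      rw [← this]; abel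
    rw [e2]; abel
  have hiso : ∀ y x, pb Q s y = 0 → pb Q s x = 0 → pb Q (u y) (u x) = pb Q y x := fun y x hy hx => by
    obtain ⟨y', hy', e⟩ := hn y hy
    have h1 := hpt hy hy' e x
    rw [hx, hγ x, hx, mul_zero] at h1
    simp only [zero_smul, sub_zero, mul_zero, map_add, map_smul, hus, add_right_inj] at h1
    rw [hmod hy hy' e, map_add, LinearMap.add_apply, map_smul, LinearMap.smul_apply, hker x hx, smul_zero, add_zero]
    exact (smul_left_injective F hs0 h1).symm
  -- which is trivial
  set N : Module.End F V := u.toLinearMap - 1 with hNd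
  have hNa : ∀ x, N x = u x - x := fun x => rfl
  have hN : N ^ p ^ k = 0 := nilp_of_pow u hu
  have hNs : N s = 0 := by rw [hNa, hus, sub_self]
  have hNperp : ∀ n x, pb Q s x = 0 → pb Q s ((N ^ n) x) = 0 := fun n x hx => by
    induction n with
    | zero => exact hx
    | succ n ih => rw [pow_succ', Module.End.mul_apply, hNa, map_sub, hγ, ih, mul_zero, sub_zero]
  have htriv : ∀ y, pb Q s y = 0 → ∃ c : F, N y = c • s := by
    classical
    intro y hy
    by_contra hne
    have hex : ∃ j, ∃ c : F, (N ^ j) y = c • s := ⟨p ^ k, 0, by rw [hN]; simp⟩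
    obtain ⟨c, hc⟩ := Nat.find_spec hex
    have h0 : Nat.find hex ≠ 0 := fun e => hne (by
      rw [e] at hc; exact ⟨0, by rw [show y = c • s from hc, map_smul, hNs]; simp⟩)
    have h1 : Nat.find hex ≠ 1 := fun e => hne (by rw [e, pow_one] at hc; exact ⟨c, hc⟩)
    obtain ⟨j, hj⟩ : ∃ j, Nat.find hex = j + 2 := ⟨Nat.find hex - 2, by omega⟩
    set x := (N ^ j) y with hxd
    set w := N x with hwd
    have hw : ∀ c : F, w ≠ c • s := fun c e =>
      Nat.find_min hex (show j + 1 < Nat.find hex by omega) ⟨c, by rw [pow_succ', Module.End.mul_apply, ← hxd, ← hwd, e]⟩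
    have hNw : N w = c • s := by rw [← hc, hj, hwd, hxd, pow_succ', pow_succ', Module.End.mul_apply, Module.End.mul_apply]
    have hsx : pb Q s x = 0 := hNperp j y hy
    have hsw : pb Q s w = 0 := by
      have := hNperp 1 x hsx
      rwa [pow_one] at this
    have hux : u x = x + w := by rw [hwd, hNa]; abel
    have huw : u w = w + c • s := by rw [← hNw, hNa]; abel
    have hxs : pb Q x s = 0 := by rw [pb_symm, hsx]
    have hws : pb Q w s = 0 := by rw [pb_symm, hsw]
    have hQw : Q w = 0 := by
      have := hiso x w hsx hsw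
      rw [hux, huw] at this
      simp only [map_add, LinearMap.add_apply, map_smul, hxs, hws, smul_zero, add_zero, pb_self w] at this
      rw [add_eq_left, mul_eq_zero] at this
      exact this.resolve_left h.two
    have hxw : pb Q x w = 0 := by
      have := hiso x x hsx hsx
      rw [hux] at this
      simp only [map_add, LinearMap.add_apply, pb_self w, hQw, mul_zero, pb_symm w x, add_zero, add_assoc] at this
      rw [add_eq_left, ← two_mul, mul_eq_zero] at this
      exact this.resolve_left h.two
    -- three independent vectors fill the tangent hyperplane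
    have hli : LinearIndependent F ![x, w, s] := by
      rw [Fintype.linearIndependent_iff]
      intro g hg
      simp [Fin.sum_univ_three] at hg
      have e := congrArg N hg
      simp only [map_add, map_smul, map_zero, ← hwd, hNw, hNs, smul_zero, add_zero, smul_smul] at e
      have g0 : g 0 = 0 := by
        by_contra g0
        refine hw (-((g 0)⁻¹ * (g 1 * c))) ?_
        rw [neg_smul, mul_smul, eq_neg_of_add_eq_zero_right e, smul_neg, neg_neg, smul_smul, inv_mul_cancel₀ g0, one_smul]
      rw [g0, zero_smul, zero_add] at hg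
      have g1 : g 1 = 0 := by
        by_contra g1
        refine hw (-((g 1)⁻¹ * g 2)) ?_
        rw [neg_smul, mul_smul, eq_neg_of_add_eq_zero_right hg, smul_neg, neg_neg, smul_smul, inv_mul_cancel₀ g1, one_smul]
      rw [g1, zero_smul, zero_add, smul_eq_zero] at hg
      intro i; fin_cases i
      exacts [g0, g1, hg.resolve_right hs0]
    have hle : Submodule.span F (Set.range ![x, w, s]) ≤ LinearMap.ker (pb Q s) := by
      rw [Submodule.span_le]
      rintro _ ⟨i, rfl⟩
      fin_cases i
      exacts [hsx, hsw, pb_ss hs]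
    have h3 : finrank F (Submodule.span F (Set.range ![x, w, s])) = 3 := by
      rw [finrank_span_eq_card hli, Fintype.card_fin]
    have hk1 : finrank F (LinearMap.ker (pb Q s)) + 1 ≤ 4 := by
      have := (pb Q s).finrank_range_add_finrank_ker
      have hr : 1 ≤ finrank F (LinearMap.range (pb Q s)) := by
        rw [Nat.one_le_iff_ne_zero, Ne, Submodule.finrank_eq_zero]
        intro e
        have h1 : pb Q s t ∈ LinearMap.range (pb Q s) := LinearMap.mem_range_self _ t
        rw [e, Submodule.mem_bot, hst] at h1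
        exact one_ne_zero h1
      have := h.le_four
      omega
    have heq := Submodule.eq_of_le_of_finrank_le hle (by omega)
    obtain ⟨a, ha⟩ := mem_span_of_perp hD hs hs0 (x := w) fun y hy => by
      have hm : y ∈ Submodule.span F (Set.range ![x, w, s]) := heq ▸ (hy : y ∈ LinearMap.ker (pb Q s))
      refine (Submodule.span_le.2 ?_ : _ ≤ LinearMap.ker (pb Q w)) hm
      rintro _ ⟨i, rfl⟩
      fin_cases i
      exacts [by show pb Q w x = 0; rw [pb_symm, hxw], by show pb Q w w = 0; rw [pb_self, hQw, mul_zero], hws]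
    exact hw a ha
  -- so it is an Eichler element up to a transvection
  set d := u t - t with hd
  have hsd : pb Q s d = 0 := by rw [hd, map_sub, hγ, hγ1, hst]; ring
  have hy_act : ∀ y, pb Q s y = 0 → u y = y + pb Q (-d) y • s := fun y hy => by
    obtain ⟨y', hy', e⟩ := hn y hy
    obtain ⟨c, hc⟩ := htriv y hy
    have huy : u y = y + c • s := by rw [← hc, hNa]; abel
    have e1 := hmod hy hy' e
    obtain ⟨c', hc'⟩ : ∃ c' : F, y' = y + c' • s :=
      ⟨c - (pb Q y t - Q y - (pb Q y' (u t) - Q y')), by rw [sub_smul, ← add_sub_assoc, ← huy, e1, add_sub_cancel_right]⟩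
    rw [hc', eich_add_smul hs hy] at e
    rw [hmod hy hy e, map_neg, LinearMap.neg_apply, hd, map_sub, LinearMap.sub_apply, pb_symm (u t) y, pb_symm t y]
    module
  have hsd' : pb Q s (-d) = 0 := by rw [map_neg, hsd, neg_zero]
  set c := pb Q d t + Q d with hcd
  have h0 : (c • pb Q s) s = 0 := by rw [LinearMap.smul_apply, pb_ss hs, smul_zero]
  have hueq : u = tvec (c • pb Q s) s * eich Q s (-d) := by
    refine LinearEquiv.ext fun x => ?_
    rw [LinearEquiv.mul_apply, eich_apply hs hsd', tvec_apply h0]
    have e := hy_act (x - pb Q s x • t) (by rw [map_sub, map_smul, hst, smul_eq_mul, mul_one, sub_self])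
    rw [map_sub, map_smul, sub_eq_iff_eq_add, show u t = t + d by rw [hd]; abel] at e
    rw [e]
    simp only [map_add, map_sub, map_neg, map_smul, LinearMap.smul_apply, LinearMap.neg_apply, QuadraticMap.map_neg,
      hsd, pb_ss hs, smul_eq_mul, hcd]
    module
  have hT : tvec (c • pb Q s) s ∈ M := by
    have := mul_mem huM (inv_mem (eich_memM hD hs hsd'))
    rwa [hueq, mul_inv_cancel_right] at this
  rw [hueq, h.noT s hs0 hs c hT, zero_smul, tvec_zero_left, one_mul]
  exact eich_mem_eGroup hs hsd'

/-- the Eichler group is a maximal `p`-subgroup -/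
theorem le_eGroup [Finite F] (hs : Q s = 0) (hs0 : s ≠ 0) (S : Subgroup (V ≃ₗ[F] V)) (hS : S ≤ M) (hp : IsPGroup p S)
    (hA : eGroup hs ≤ S) : S ≤ eGroup hs := by
  haveI : Finite V := Module.finite_of_finite F
  haveI : Finite (V ≃ₗ[F] V) := Finite.of_injective (fun g => (g : V → V)) DFunLike.coe_injective
  by_contra hne
  haveI : Group.IsNilpotent S := hp.isNilpotent
  set A := (eGroup hs).subgroupOf S with hAd
  have hlt : A < ⊤ := lt_top_iff_ne_top.2 fun e => hne (Subgroup.subgroupOf_eq_top.1 e)
  obtain ⟨u, hu, huA⟩ := SetLike.exists_of_lt (Group.normalizerCondition_of_isNilpotent A hlt)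
  obtain ⟨k, hk⟩ := hp u
  refine huA (normalizer_le (k := k) h hs hs0 (hS u.2) ?_ (fun y hy => ?_) (fun y hy => ?_))
  · have := congrArg Subtype.val hk
    simpa using this
  · have := (Subgroup.mem_normalizer_iff.1 hu ⟨_, hA (eich_mem_eGroup hs hy)⟩).1 (eich_mem_eGroup hs hy)
    obtain ⟨y', hy', e⟩ := this
    refine ⟨y', hy', ?_⟩
    rw [← e]
    simp
  · have := (Subgroup.mem_normalizer_iff''.1 hu ⟨_, hA (eich_mem_eGroup hs hy)⟩).1 (eich_mem_eGroup hs hy)
    obtain ⟨y', hy', e⟩ := this
    refine ⟨y', hy', ?_⟩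
    rw [← e]
    simp [mul_assoc]

end Cfsg.Agent.ClassicalMax.SmallForm.Orth
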