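import Cfsg.Agent.ClassicalMax.SmallLinear.Unitary

/-!
The similarity group of a unitary form in dimension at least three is maximal in the special linear group: one
transvection outside the unitary group yields, through Eichler elements, all transvections at an isotropic point, and
these generate the special linear group.
-/

set_option autoImplicit false
open Cfsg

namespace Cfsg.Agent.ClassicalMax.SmallForm.Unit

open Module Cfsg.Agent.Classical Cfsg.Agent.ClassicalMax
open Cfsg.Agent.ClassicalMax.SmallLinear.Unitary (perp mem_perp finrank_perp exists_aniso exists_perp)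

variable {F V : Type*} [Field F] [AddCommGroup V] [Module F V] [Finite F] [FiniteDimensional F V]
variable {σ : F →+* F} {B : V →ₛₗ[σ] V →ₗ[F] F}

/-- the standing hypotheses -/
structure Data (B : V →ₛₗ[σ] V →ₗ[F] F) (M : Subgroup (V ≃ₗ[F] V)) : Prop where
  herm : Herm.IsHerm B
  dim : 3 ≤ finrank F V
  sub : ∀ g : V ≃ₗ[F] V, (∀ x y, B (g x) (g y) = B x y) → LinearMap.det g.toLinearMap = 1 → g ∈ M

variable {M : Subgroup (V ≃ₗ[F] V)} (h : Data B M)
include h

theorem flip {x y : V} (hxy : B x y = 0) : B y x = 0 := (Herm.eq_zero_comm h.herm).1 hxy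

/-- Eichler elements at an isotropic vector -/
theorem exists_eich {s y : V} (hs : B s s = 0) (hy : B s y = 0) :
    ∃ E ∈ M, (∀ x z, B (E x) (E z) = B x z) ∧
      ∃ θ : F, ∀ x, E x = x + B s x • y + (θ * B s x - B y x) • s := by
  have hB := h.herm
  obtain ⟨θ, hθ⟩ := Herm.exists_trace hB.toIsInvol (a := -B y y) (by rw [map_neg, Herm.fix_self hB])
  set ψ : Dual F V := (θ + B y y) • B s - B y with hψ
  have h1 : ψ s = 0 := by simp [hψ, hs, flip h hy]
  set E := tvec ψ s * tvec (B s) y with hE
  have hx : ∀ x, E x = x + B s x • y + (θ * B s x - B y x) • s := fun x => by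
    rw [hE, LinearEquiv.mul_apply, tvec_apply hy, tvec_apply h1, hψ]
    simp only [LinearMap.sub_apply, LinearMap.smul_apply, map_add, map_smul, hy, smul_eq_mul]
    module
  have hiso : ∀ x z, B (E x) (E z) = B x z := fun x z => by
    rw [hx, hx]
    simp only [map_add, map_smulₛₗ, LinearMap.add_apply, LinearMap.smul_apply, smul_eq_mul, map_mul, map_sub, RingHom.id_apply,
      hs, hy, flip h hy, hB.symm]
    linear_combination (B x s * B s z) * hθ
  exact ⟨E, h.sub E hiso (by
    rw [hE, show (tvec ψ s * tvec (B s) y).toLinearMap = (tvec ψ s).toLinearMap ∘ₗ (tvec (B s) y).toLinearMap from rfl,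
      LinearMap.det_comp, det_tvec, det_tvec, one_mul]), hiso, θ, hx⟩

theorem tv_mem {u : V} (hu : B u u = 0) {k : F} (hk : σ k = -k) : tvec (k • B u) u ∈ M := by
  have h0 : (k • B u) u = 0 := by rw [LinearMap.smul_apply, hu, smul_zero]
  have e : tvec (k • B u) u = Herm.tvU hu k := LinearEquiv.ext fun x => by
    rw [tvec_apply h0, Herm.tvU_apply]; rfl
  rw [e]
  have := Herm.tvU_mem h.herm hu (show k + σ k = 0 by rw [hk]; ring)
  exact h.sub _ this.1 (by simpa [Units.ext_iff] using this.2)

theorem exists_partner {s : V} (hs : B s s = 0) (hs0 : s ≠ 0) : ∃ t, B t t = 0 ∧ B s t = 1 := by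
  have hB := h.herm
  obtain ⟨k, -, hk⟩ := exists_perp hB (S := (⊥ : Submodule F V)) (x := s) (by simpa using hs0)
  obtain ⟨c, hc⟩ := Herm.exists_trace hB.toIsInvol (a := -B k k) (by rw [map_neg, Herm.fix_self hB])
  have hks : B k s = 1 := by rw [← hB.symm, hk, map_one]
  refine ⟨k + c • s, ?_, by rw [map_add, map_smul, hk, hs, smul_zero, add_zero]⟩
  simp only [map_add, map_smulₛₗ, LinearMap.add_apply, LinearMap.smul_apply, smul_eq_mul, RingHom.id_apply, hs, hk, hks]
  linear_combination hc

/-- non-orthogonal isotropic points are moved to one another by a transvection -/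
theorem exists_swap {s r : V} (hs : B s s = 0) (hr : B r r = 0) (hsr : B s r ≠ 0) :
    ∃ k ∈ M, (∀ x z, B (k x) (k z) = B x z) ∧ ∃ c : F, c ≠ 0 ∧ k s = c • r := by
  have hB := h.herm
  obtain ⟨ε, hε0, hε⟩ := Herm.exists_skew hB.toIsInvol
  set β := ε / B s r with hβ
  have hβe : β * B s r = ε := div_mul_cancel₀ _ hsr
  set u := s + β • r with hu
  have hβe' : σ β * B r s = -ε := by rw [← hB.symm, ← map_mul, hβe, hε]
  have huu : B u u = 0 := by
    simp only [hu, map_add, map_smulₛₗ, LinearMap.add_apply, LinearMap.smul_apply, smul_eq_mul, RingHom.id_apply, hs, hr]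
    linear_combination hβe + hβe'
  have hεi : σ ε⁻¹ = -ε⁻¹ := by rw [map_inv₀, hε, inv_neg]
  have h0 : (ε⁻¹ • B u) u = 0 := by rw [LinearMap.smul_apply, huu, smul_zero]
  refine ⟨tvec (ε⁻¹ • B u) u, tv_mem h huu hεi, fun x z => ?_, -β, neg_ne_zero.2 (div_ne_zero hε0 hsr), ?_⟩
  · rw [tvec_apply h0, tvec_apply h0]
    simp only [map_add, map_smulₛₗ, LinearMap.add_apply, LinearMap.smul_apply, smul_eq_mul, map_mul, RingHom.id_apply, huu,
      hB.symm, hεi]
    ring
  · have e : B u s = -ε := by
      simp only [hu, map_add, map_smulₛₗ, LinearMap.add_apply, LinearMap.smul_apply, smul_eq_mul, hs, zero_add]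
      exact hβe'
    rw [tvec_apply h0, LinearMap.smul_apply, e, smul_eq_mul, mul_neg, inv_mul_cancel₀ hε0, neg_smul, one_smul, hu, neg_smul]
    abel

theorem transfer {P : V → Prop} (hP : ∀ s r, s ≠ 0 → r ≠ 0 → B s s = 0 → B r r = 0 → B s r ≠ 0 → P s → P r)
    {s r : V} (hs0 : s ≠ 0) (hr0 : r ≠ 0) (hs : B s s = 0) (hr : B r r = 0) (h0 : P s) : P r := by
  have ne : ∀ {x y : V}, B x y = 1 → y ≠ 0 := fun {x y} e e0 => by rw [e0, map_zero] at e; exact zero_ne_one e
  by_cases hsr : B s r = 0
  swap
  · exact hP s r hs0 hr0 hs hr hsr h0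
  obtain ⟨t, ht, hst⟩ := exists_partner h hs hs0
  have hts : B t s ≠ 0 := fun e => by rw [flip h e] at hst; exact zero_ne_one hst
  have h1 := hP s t hs0 (ne hst) hs ht (by rw [hst]; exact one_ne_zero) h0
  by_cases htr : B t r = 0
  swap
  · exact hP t r (ne hst) hr0 ht hr htr h1
  obtain ⟨t', ht', hrt'⟩ := exists_partner h hr hr0
  have hr' : B t' r ≠ 0 := fun e => by rw [flip h e] at hrt'; exact zero_ne_one hrt'
  by_cases hst' : B s t' = 0
  swap
  · exact hP t' r (ne hrt') hr0 ht' hr hr' (hP s t' hs0 (ne hrt') hs ht' hst' h0)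
  -- through the sum
  have hq : B (s + r) (s + r) = 0 := by simp [hs, hr, hsr, flip h hsr]
  have htq : B t (s + r) ≠ 0 := by rwa [map_add, htr, add_zero]
  have hq0 : s + r ≠ 0 := fun e => htq (by rw [e, map_zero])
  exact hP t' r (ne hrt') hr0 ht' hr hr' (hP (s + r) t' hq0 (ne hrt') hq ht'
    (by rw [map_add, LinearMap.add_apply, hst', hrt', zero_add]; exact one_ne_zero) (hP t (s + r) (ne hst) hq0 ht hq htq h1))

/-- the isotropic vectors span the space -/
theorem singular_induction {P : V → Prop} (hadd : ∀ x y, P x → P y → P (x + y)) (hsing : ∀ x, B x x = 0 → P x)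
    {s : V} (hs : B s s = 0) (hs0 : s ≠ 0) (x : V) : P x := by
  have hB := h.herm
  obtain ⟨t, ht, hst⟩ := exists_partner h hs hs0
  have hts : B t s = 1 := by rw [← hB.symm, hst, map_one]
  have hline : ∀ (c : F) (u : V), B u u = 0 → P (c • u) := fun c u hu => hsing _ (by rw [Herm.smul_self hB, hu, mul_zero])
  set z := x - B t x • s - B s x • t with hz
  have h1 : B s z = 0 := by rw [hz, map_sub, map_sub, map_smul, map_smul, hs, hst]; simp
  have h2 : B t z = 0 := by rw [hz, map_sub, map_sub, map_smul, map_smul, hts, ht]; simp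
  obtain ⟨c, hc⟩ := Herm.exists_trace hB.toIsInvol (a := -B z z) (by rw [map_neg, Herm.fix_self hB])
  have hzP : P (z + (c • s + t)) := hsing _ (by
    simp only [map_add, map_smulₛₗ, LinearMap.add_apply, LinearMap.smul_apply, smul_eq_mul, RingHom.id_apply, hs, ht, hst, hts,
      h1, h2, flip h h1, flip h h2]
    linear_combination hc)
  have hx : x = (z + (c • s + t)) + ((B t x - c) • s + (B s x - 1) • t) := by rw [hz]; module
  rw [hx]
  exact hadd _ _ hzP (hadd _ _ (hline _ _ hs) (hline _ _ ht))

/-- all the transvections at an isotropic vector with axis its orthogonal hyperplane -/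
def Full (B : V →ₛₗ[σ] V →ₗ[F] F) (M : Subgroup (V ≃ₗ[F] V)) (s : V) : Prop := ∀ a : F, tvec (a • B s) s ∈ M

theorem full_all {s : V} (hs : B s s = 0) (hs0 : s ≠ 0) (hf : Full B M s) {r : V} (hr : B r r = 0) : Full B M r := by
  rcases eq_or_ne r 0 with rfl | hr0
  · intro a; rw [tvec_zero_right]; exact one_mem M
  refine transfer h (P := Full B M) ?_ hs0 hr0 hs hr hf
  intro x y _ _ hx hy hxy hfx a
  obtain ⟨k, hkM, hk, c, hc, e⟩ := exists_swap h hx hy hxy
  have := mul_mem (mul_mem hkM (hfx (a * (c * σ c)⁻¹))) (inv_mem hkM)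
  rw [conj_tvec k (by rw [LinearMap.smul_apply, hx, smul_zero]), e, ← tvec_smul,
    show c • ((a * (c * σ c)⁻¹) • B x).comp (k⁻¹ : V ≃ₗ[F] V).toLinearMap = a • B y from LinearMap.ext fun v => by
      show c * ((a * (c * σ c)⁻¹) * B x (k⁻¹ v)) = a * B y v
      rw [← hk x (k⁻¹ v), apply_inv, e, map_smulₛₗ, LinearMap.smul_apply, smul_eq_mul]
      have : σ c ≠ 0 := (map_ne_zero σ).2 hc
      field_simp] at this
  exact this

/-- a full transvection group at one isotropic vector gives all transvections -/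
theorem all_of_full {s : V} (hs : B s s = 0) (hs0 : s ≠ 0) (hf : Full B M s) :
    ∀ (φ : Dual F V) (v : V), φ v = 0 → tvec φ v ∈ M := by
  have hB := h.herm
  have hdim := h.dim
  have full : ∀ r, B r r = 0 → Full B M r := fun r hr => full_all h hs hs0 hf hr
  -- the transvections seen in a plane
  have plane : ∀ u z : V, B u u ≠ 0 → B z z ≠ 0 → B u z = 0 → ∀ a : F, tvec (a • B z) u ∈ M := by
    intro u z hu hz huz a
    obtain ⟨c, hc⟩ := Herm.exists_norm hB.toIsInvol (a := -B u u / B z z)
      (by rw [map_div₀, map_neg, Herm.fix_self hB, Herm.fix_self hB])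
    have hc' : c * σ c * B z z = -B u u := by rw [hc, div_mul_cancel₀ _ hz]
    have hc0 : c ≠ 0 := fun e => hu (by rw [e] at hc'; simpa using hc'.symm)
    obtain ⟨δ, hδ1, hδ⟩ := Herm.exists_norm_one_ne_one hB
    have hδ0 : δ ≠ 0 := fun e => by simp [e] at hδ
    have hδ' : σ δ = δ⁻¹ := eq_inv_of_mul_eq_one_right hδ
    set s1 := u + c • z with hs1
    set s2 := u + (δ * c) • z with hs2
    have hzu := flip h huz
    have h11 : B s1 s1 = 0 := by
      simp only [hs1, map_add, map_smulₛₗ, LinearMap.add_apply, LinearMap.smul_apply, smul_eq_mul, RingHom.id_apply, huz, hzu]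
      linear_combination hc'
    have h22 : B s2 s2 = 0 := by
      simp only [hs2, map_add, map_smulₛₗ, LinearMap.add_apply, LinearMap.smul_apply, smul_eq_mul, RingHom.id_apply, huz, hzu,
        map_mul]
      linear_combination hc' + (c * σ c * B z z) * hδ
    have h12 : B s1 s2 = B u u * (1 - δ) := by
      simp only [hs1, hs2, map_add, map_smulₛₗ, LinearMap.add_apply, LinearMap.smul_apply, smul_eq_mul, RingHom.id_apply, huz, hzu]
      linear_combination δ * hc'
    have h21 : B s2 s1 = B u u * (1 - δ⁻¹) := by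
      rw [← hB.symm, h12, map_mul, map_sub, map_one, Herm.fix_self hB, hδ']
    have hne : (1 - δ⁻¹) ≠ 0 := sub_ne_zero.2 fun e => hδ1 (inv_eq_one.1 e.symm)
    set b := -δ⁻¹ / B s2 s1 with hb
    have hb1 : b * B s2 s1 = -δ⁻¹ := div_mul_cancel₀ _ (by rw [h21]; exact mul_ne_zero hu hne)
    have hb2 : b * B s1 s2 = 1 := by
      rw [hb, h12, h21]
      field_simp
      ring
    set k := tvec (b • B s2) s2 with hk
    have hk0 : (b • B s2) s2 = 0 := by rw [LinearMap.smul_apply, h22, smul_zero]
    set a' := a / ((1 - δ⁻¹) * σ ((1 - δ) * c)) with ha'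
    have h10 : (a' • B s1) s1 = 0 := by rw [LinearMap.smul_apply, h11, smul_zero]
    have hkM : k ∈ M := full _ h22 b
    have := mul_mem (mul_mem hkM (full _ h11 a')) (inv_mem hkM)
    rw [conj_tvec k h10, show k s1 = (1 - δ⁻¹) • u by
        rw [hk, tvec_apply hk0, LinearMap.smul_apply, smul_eq_mul, hb1, hs1, hs2]
        match_scalars <;> field_simp <;> ring,
      ← tvec_smul, show (1 - δ⁻¹) • (a' • B s1).comp (k⁻¹ : V ≃ₗ[F] V).toLinearMap = a • B z from LinearMap.ext fun v => by
        show (1 - δ⁻¹) * (a' * B s1 (k⁻¹ v)) = a * B z v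
        rw [hk, tvec_inv hk0, tvec_apply (by rw [LinearMap.neg_apply, hk0, neg_zero]), map_add, map_smul, LinearMap.neg_apply,
          LinearMap.smul_apply]
        simp only [smul_eq_mul]
        have e : B s1 v - B s2 v = σ ((1 - δ) * c) * B z v := by
          simp only [hs1, hs2, map_add, map_smulₛₗ, LinearMap.add_apply, LinearMap.smul_apply, smul_eq_mul, map_mul, map_sub, map_one]
          ring
        have hne' : σ ((1 - δ) * c) ≠ 0 := (map_ne_zero σ).2 (mul_ne_zero (sub_ne_zero.2 fun e => hδ1 e.symm) hc0)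
        have ha : (1 - δ⁻¹) * a' * σ ((1 - δ) * c) = a := by rw [ha']; field_simp
        linear_combination (-((1 - δ⁻¹) * a') * B s2 v) * hb2 + ((1 - δ⁻¹) * a') * e + (B z v) * ha] at this
    exact this
  obtain ⟨u, -, hu⟩ := exists_aniso hB (⊤ : Submodule F V) (by rw [finrank_top]; omega)
  obtain ⟨y, hy, hQy⟩ := exists_aniso hB (perp B [u]) (by
    have := finrank_perp (B := B) [u]; simp only [List.length_cons, List.length_nil] at this; omega)
  have huy : B u y = 0 := mem_perp.1 hy u (by simp)
  have hu0 : u ≠ 0 := fun e => hu (by rw [e, map_zero])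
  refine all_of_one M (fun U hU => ?_) hu0 fun φ hφ => ?_
  · rcases eq_or_ne U ⊥ with hU0 | hU0
    · exact Or.inl hU0
    obtain ⟨x, hx, hx0⟩ := U.exists_mem_ne_zero_of_ne_bot hU0
    have hin : ∀ x ∈ U, ∀ r, B r r = 0 → B r x ≠ 0 → r ∈ U := fun x hx r hr hrx => by
      have := hU _ (full r hr 1) x hx
      rw [tvec_apply (by rw [LinearMap.smul_apply, hr, smul_zero]), U.add_mem_iff_right hx, LinearMap.smul_apply,
        one_smul] at this
      exact (U.smul_mem_iff hrx).1 this
    obtain ⟨r, hr, hrx⟩ : ∃ r, B r r = 0 ∧ B r x ≠ 0 := by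
      by_contra! hc
      refine hx0 (hB.nondeg _ fun v => flip h ?_)
      exact singular_induction h (P := fun v => B v x = 0) (fun a b ha hb => by rw [map_add, LinearMap.add_apply, ha, hb, add_zero])
        hc hs hs0 v
    have hr0 : r ≠ 0 := fun e => hrx (by rw [e, map_zero, LinearMap.zero_apply])
    refine Or.inr (eq_top_iff.2 fun v _ => singular_induction h (P := (· ∈ U)) (fun a b ha hb => U.add_mem ha hb) ?_ hs hs0 v)
    intro w hw
    rcases eq_or_ne w 0 with rfl | hw0
    · exact U.zero_mem
    refine transfer h (P := (· ∈ U)) ?_ hr0 hw0 hr hw (hin x hx r hr hrx)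
    exact fun a b _ _ _ hb hab ha => hin a ha b hb fun e => hab (flip h e)
  · obtain ⟨z, hz⟩ := Herm.exists_repr hB φ
    obtain rfl : B z = φ := LinearMap.ext hz
    have huz : B u z = 0 := flip h hφ
    by_cases hQz : B z z = 0
    swap
    · have := plane u z hu hQz huz 1
      rwa [one_smul] at this
    -- an isotropic one is a difference of two anisotropic ones
    obtain ⟨l, hl0, hl⟩ : ∃ l : F, l ≠ 0 ∧ B (z + l • y) (z + l • y) ≠ 0 := by
      obtain ⟨ε, hε0, hε⟩ := Herm.exists_skew hB.toIsInvol
      by_cases hzy : B z y = 0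
      · refine ⟨1, one_ne_zero, ?_⟩
        rw [one_smul]
        simpa [hQz, hzy, flip h hzy] using hQy
      refine ⟨ε / B z y, div_ne_zero hε0 hzy, fun e => ?_⟩
      simp only [map_add, map_smulₛₗ, LinearMap.add_apply, LinearMap.smul_apply, smul_eq_mul, RingHom.id_apply, hQz] at e
      have e1 : ε / B z y * B z y = ε := div_mul_cancel₀ _ hzy
      have e2 : σ (ε / B z y) * B y z = -ε := by rw [show B y z = σ (B z y) from (hB.symm z y).symm, ← map_mul, e1, hε]
      have e3 : σ (ε / B z y) * (ε / B z y * B y y) = 0 := by linear_combination e - e1 - e2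
      exact mul_ne_zero ((map_ne_zero σ).2 (div_ne_zero hε0 hzy)) (mul_ne_zero (div_ne_zero hε0 hzy) hQy) e3
    have h1 := plane u _ hu hl (by rw [map_add, map_smul, huz, huy, smul_zero, add_zero]) 1
    have h2 := plane u y hu hQy huy (-σ l)
    have := mul_mem h1 h2
    rw [tvec_mul_left (by rw [LinearMap.smul_apply, flip h (show B u (z + l • y) = 0 by rw [map_add, map_smul, huz, huy, smul_zero, add_zero]), smul_zero])
      (by rw [LinearMap.smul_apply, flip h huy, smul_zero])] at this
    rwa [one_smul, map_add, map_smulₛₗ, add_assoc, ← add_smul, add_neg_cancel, zero_smul, add_zero] at this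

/-- an overgroup with a non-similarity contains every transvection -/
theorem all_transvections (hex : ∃ s : V, s ≠ 0 ∧ B s s = 0) {g : V ≃ₗ[F] V} (hgM : g ∈ M)
    (hns : ¬ ∃ c : F, ∀ x y, B (g x) (g y) = c * B x y) : ∀ (φ : Dual F V) (v : V), φ v = 0 → tvec φ v ∈ M := by
  have hB := h.herm
  have hdim := h.dim
  obtain ⟨k, hk0, hk⟩ := Herm.exists_skew hB.toIsInvol
  obtain ⟨s₀, hs₀, hQ₀⟩ := hex
  by_cases hbad : ∃ v w, v ≠ 0 ∧ B w v = 0 ∧ w ∉ Submodule.span F {v} ∧ tvec (B w) v ∈ M
  · obtain ⟨v, w, hv0, hwv, hw, hmem⟩ := hbad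
    by_cases hQv : B v v = 0
    · refine all_of_full h hQv hv0 fun a => ?_
      obtain ⟨z, hz, hz'⟩ := exists_perp hB hw
      have hvz : B v z = 0 := hz v (Submodule.mem_span_singleton_self v)
      obtain ⟨E, hEM, hE, θ, hEx⟩ := exists_eich h hQv (y := (-a) • z) (by rw [map_smul, hvz, smul_zero])
      have hEv : E v = v := by rw [hEx, hQv, map_smulₛₗ, LinearMap.smul_apply, flip h hvz]; simp
      have hEw : E w = w + σ a • v := by
        rw [hEx, flip h hwv, map_smulₛₗ, LinearMap.smul_apply, show B z w = 1 by rw [← hB.symm, hz', map_one]]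
        simp
      have h1 := mul_mem (mul_mem hEM hmem) (inv_mem hEM)
      rw [conj_tvec E hwv, hEv, show (B w).comp (E⁻¹ : V ≃ₗ[F] V).toLinearMap = B w + a • B v from LinearMap.ext fun x => by
        show B w (E⁻¹ x) = B w x + a * B v x
        rw [← hE w (E⁻¹ x), apply_inv, hEw, map_add, LinearMap.add_apply, map_smulₛₗ, LinearMap.smul_apply, hB.invol, smul_eq_mul]] at h1
      have h2 := mul_mem h1 (inv_mem hmem)
      rwa [tvec_inv hwv, tvec_mul_left (by simp [hwv, hQv]) (by simp [hwv]), add_comm (B w), add_neg_cancel_right] at h2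
    · -- an isotropic vector orthogonal to the centre
      obtain ⟨y, hy, hy'⟩ := exists_perp hB hw
      have hvy : B v y = 0 := hy v (Submodule.mem_span_singleton_self v)
      obtain ⟨s, hvs, hQs, hws⟩ : ∃ s, B v s = 0 ∧ B s s = 0 ∧ B w s ≠ 0 := by
        by_cases hQy : B y y = 0
        · exact ⟨y, hvy, hQy, by rw [hy']; exact one_ne_zero⟩
        obtain ⟨z, hz, hQz⟩ : ∃ z ∈ perp B [v, y], B z z ≠ 0 := by
          refine Herm.exists_anisotropic hB _ ?_
          by_contra! hc
          have hpos : 0 < finrank F (perp B [v, y]) := by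
            have := finrank_perp (B := B) [v, y]; simp only [List.length_cons, List.length_nil] at this; omega
          obtain ⟨z, hz, hz0⟩ := (perp B [v, y]).exists_mem_ne_zero_of_ne_bot fun e => by rw [e, finrank_bot] at hpos; omega
          refine hz0 (hB.nondeg z fun x => ?_)
          have e1 : B z v = 0 := flip h (mem_perp.1 hz v (by simp))
          have e2 : B z y = 0 := flip h (mem_perp.1 hz y (by simp))
          set x' := x - (B v x / B v v) • v - (B y x / B y y) • y with hx'
          have hm : x' ∈ perp B [v, y] := mem_perp.2 fun a ha => by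
            simp only [List.mem_cons, List.not_mem_nil, or_false] at ha
            rcases ha with rfl | rfl
            · rw [hx', map_sub, map_sub, map_smul, map_smul, hvy, smul_zero, sub_zero, smul_eq_mul, div_mul_cancel₀ _ hQv, sub_self]
            · rw [hx', map_sub, map_sub, map_smul, map_smul, flip h hvy, smul_zero, sub_zero, smul_eq_mul, div_mul_cancel₀ _ hQy, sub_self]
          have := hc z hz x' hm
          rwa [hx', map_sub, map_sub, map_smul, map_smul, e1, e2, smul_zero, smul_zero, sub_zero, sub_zero] at this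
        have hvz : B v z = 0 := mem_perp.1 hz v (by simp)
        have hyz : B y z = 0 := mem_perp.1 hz y (by simp)
        obtain ⟨c, hc⟩ := Herm.exists_norm hB.toIsInvol (a := -B y y / B z z)
          (by rw [map_div₀, map_neg, Herm.fix_self hB, Herm.fix_self hB])
        have hc' : c * σ c * B z z = -B y y := by rw [hc, div_mul_cancel₀ _ hQz]
        have cand : ∀ d, d * σ d = 1 → B v (y + (d * c) • z) = 0 ∧ B (y + (d * c) • z) (y + (d * c) • z) = 0 := fun d hd => by
          refine ⟨by rw [map_add, map_smul, hvy, hvz, smul_zero, add_zero], ?_⟩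
          simp only [map_add, map_smulₛₗ, LinearMap.add_apply, LinearMap.smul_apply, smul_eq_mul, RingHom.id_apply, map_mul, hyz,
            flip h hyz]
          linear_combination hc' + (c * σ c * B z z) * hd
        obtain ⟨δ, hδ1, hδ⟩ := Herm.exists_norm_one_ne_one hB
        by_cases h1 : B w (y + ((1 : F) * c) • z) = 0
        · refine ⟨_, (cand δ hδ).1, (cand δ hδ).2, fun h2 => ?_⟩
          simp only [map_add, map_smul, hy', smul_eq_mul] at h1 h2
          have : (δ - 1) * (c * B w z) = 0 := by linear_combination h2 - h1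
          rcases mul_eq_zero.1 this with e | e
          · exact hδ1 (sub_eq_zero.1 e)
          · exact one_ne_zero (α := F) (by linear_combination h1 - e)
        · exact ⟨_, (cand 1 (by simp)).1, (cand 1 (by simp)).2, h1⟩
      have hs0 : s ≠ 0 := fun e => hws (by rw [e, map_zero])
      have hsv := flip h hvs
      have h1 : tvec ((B w s * k) • B s) v ∈ M := by
        have hk0' : (k • B s) s = 0 := by rw [LinearMap.smul_apply, hQs, smul_zero]
        have hψv : (k • B s) v = 0 := by rw [LinearMap.smul_apply, hsv, smul_zero]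
        have hmk := tv_mem h hQs hk
        have := mul_mem (mul_mem (mul_mem hmem hmk) (inv_mem hmem)) (inv_mem hmk)
        rwa [comm_tvec hwv hk0' hψv, smul_smul] at this
      set a₁ := B w s * k with ha₁
      have ha₁0 : a₁ ≠ 0 := mul_ne_zero hws hk0
      refine all_of_full h hQs hs0 fun a => ?_
      obtain ⟨E, hEM, hE, θ, hEx⟩ := exists_eich h hQs (y := σ (-(a / a₁) / B v v) • v) (by rw [map_smul, hsv, smul_zero])
      have hEs : E s = s := by
        rw [hEx, hQs, map_smulₛₗ, LinearMap.smul_apply, hvs]; simp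
      have hEv : E v = v + (a / a₁) • s := by
        rw [hEx, hsv, map_smulₛₗ, hB.invol, LinearMap.smul_apply, smul_eq_mul, div_mul_cancel₀ _ hQv]
        simp
      have h0 : (a₁ • B s) v = 0 := by rw [LinearMap.smul_apply, hsv, smul_zero]
      have h2 := mul_mem (mul_mem hEM h1) (inv_mem hEM)
      rw [conj_tvec E h0, hEv, show (a₁ • B s).comp (E⁻¹ : V ≃ₗ[F] V).toLinearMap = a₁ • B s from LinearMap.ext fun x => by
        show a₁ * B s (E⁻¹ x) = a₁ * B s x
        rw [← hE s (E⁻¹ x), apply_inv, hEs]] at h2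
      have h3 := mul_mem (inv_mem h1) h2
      rw [← tvec_mul_right (φ := a₁ • B s) (w := (a / a₁) • s) h0 (by simp [hQs]), inv_mul_cancel_left, ← tvec_smul, smul_smul,
        div_mul_cancel₀ _ ha₁0] at h3
      exact h3
  exfalso
  let rel : V → F → Prop := fun u μ => ∀ y, B (g u) (g y) = μ * B u y
  have hrow : ∀ u, u ≠ 0 → B u u = 0 → ∃ μ, rel u μ := by
    intro u hu hQ
    have h0 : (k • B u) u = 0 := by simp [hQ]
    have hm := mul_mem (mul_mem hgM (tv_mem h hQ hk)) (inv_mem hgM)
    rw [conj_tvec g h0] at hm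
    obtain ⟨w, hw⟩ := Herm.exists_repr hB ((k • B u).comp (g⁻¹ : V ≃ₗ[F] V).toLinearMap)
    have hw0 : B w (g u) = 0 := by
      rw [hw]
      show (k • B u) (g⁻¹ (g u)) = 0
      rw [inv_apply]; exact h0
    have hgu : g u ≠ 0 := fun e => hu (g.injective (e.trans g.map_zero.symm))
    obtain ⟨c, rfl⟩ : ∃ c, c • g u = w := Submodule.mem_span_singleton.1 (by
      by_contra hne
      refine hbad ⟨g u, w, hgu, hw0, hne, ?_⟩
      convert hm using 2
      exact LinearMap.ext hw)
    have hy : ∀ y, σ c * B (g u) (g y) = k * B u y := fun y => by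
      have := hw (g y)
      simpa [inv_apply] using this
    have hc : c ≠ 0 := fun e => hu (hB.nondeg u fun y => by
      have := hy y
      rw [e, map_zero, zero_mul, eq_comm, mul_eq_zero] at this
      exact this.resolve_left hk0)
    refine ⟨k / σ c, fun y => ?_⟩
    rw [div_mul_eq_mul_div, eq_div_iff ((map_ne_zero σ).2 hc), ← hy y, mul_comm]
  -- the multiplier is constant and fixed by the involution
  obtain ⟨t, ht, hst⟩ := exists_partner h hQ₀ hs₀
  have ht0 : t ≠ 0 := fun e => by rw [e, map_zero] at hst; exact zero_ne_one hst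
  obtain ⟨μ, hμ⟩ := hrow s₀ hs₀ hQ₀
  have hpair : ∀ a b μa μb, rel a μa → rel b μb → B a b ≠ 0 → μa = σ μb := fun a b μa μb ha hb hab => by
    have e1 := ha b
    rw [← hB.symm, hb a, map_mul, hB.symm] at e1
    exact (mul_right_cancel₀ hab e1).symm
  have hμfix : σ μ = μ := by
    obtain ⟨u, hu, hQu⟩ : ∃ u ∈ perp B [s₀, t], B u u ≠ 0 := by
      refine Herm.exists_anisotropic hB _ ?_
      by_contra! hc
      have hpos : 0 < finrank F (perp B [s₀, t]) := by
        have := finrank_perp (B := B) [s₀, t]; simp only [List.length_cons, List.length_nil] at this; omega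
      obtain ⟨z, hz, hz0⟩ := (perp B [s₀, t]).exists_mem_ne_zero_of_ne_bot fun e => by rw [e, finrank_bot] at hpos; omega
      refine hz0 (hB.nondeg z fun x => ?_)
      have e1 : B z s₀ = 0 := flip h (mem_perp.1 hz s₀ (by simp))
      have e2 : B z t = 0 := flip h (mem_perp.1 hz t (by simp))
      set x' := x - B t x • s₀ - B s₀ x • t with hx'
      have hm : x' ∈ perp B [s₀, t] := mem_perp.2 fun a ha => by
        simp only [List.mem_cons, List.not_mem_nil, or_false] at ha
        rcases ha with rfl | rfl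
        · rw [hx', map_sub, map_sub, map_smul, map_smul, hQ₀, hst]; simp
        · rw [hx', map_sub, map_sub, map_smul, map_smul, ht, show B a s₀ = 1 by rw [← hB.symm, hst, map_one]]; simp
      have := hc z hz x' hm
      rwa [hx', map_sub, map_sub, map_smul, map_smul, e1, e2, smul_zero, smul_zero, sub_zero, sub_zero] at this
    have hu1 : B s₀ u = 0 := mem_perp.1 hu s₀ (by simp)
    have hu2 : B t u = 0 := mem_perp.1 hu t (by simp)
    have hts : B t s₀ = 1 := by rw [← hB.symm, hst, map_one]
    obtain ⟨a, ha⟩ := Herm.exists_trace hB.toIsInvol (a := -B u u) (by rw [map_neg, Herm.fix_self hB])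
    have ha0 : a ≠ 0 := fun e => hQu (by rw [e] at ha; simpa using ha.symm)
    set z := a • s₀ + t + u with hz
    have hQz : B z z = 0 := by
      simp only [hz, map_add, map_smulₛₗ, LinearMap.add_apply, LinearMap.smul_apply, smul_eq_mul, RingHom.id_apply, hQ₀, ht,
        hst, hts, hu1, hu2, flip h hu1, flip h hu2]
      linear_combination ha
    have hsz : B s₀ z = 1 := by rw [hz, map_add, map_add, map_smul, hQ₀, hst, hu1]; simp
    have htz : B t z = a := by rw [hz, map_add, map_add, map_smul, hts, ht, hu2]; simp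
    have hz0 : z ≠ 0 := fun e => by rw [e, map_zero] at hsz; exact zero_ne_one hsz
    obtain ⟨μz, hμz⟩ := hrow z hz0 hQz
    obtain ⟨μt, hμt⟩ := hrow t ht0 ht
    have e1 := hpair _ _ _ _ hμ hμz (by rw [hsz]; exact one_ne_zero)
    have e2 := hpair _ _ _ _ hμt hμz (by rw [htz]; exact ha0)
    have e3 := hpair _ _ _ _ hμ hμt (by rw [hst]; exact one_ne_zero)
    rw [e2, ← e1] at e3
    exact e3.symm
  have hall : ∀ u, B u u = 0 → rel u μ := fun u hu => by
    rcases eq_or_ne u 0 with rfl | hu0
    · intro y; simp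
    refine transfer h (P := fun r => rel r μ) ?_ hs₀ hu0 hQ₀ hu hμ
    intro a b _ hb0 _ hb hab ha
    obtain ⟨ν, hν⟩ := hrow b hb0 hb
    have e := hpair _ _ _ _ hν ha fun e => hab (flip h e)
    rwa [e, hμfix] at hν
  exact hns ⟨μ, fun x y => singular_induction h (P := fun r => rel r μ) (fun a b ha hb z => by
    rw [map_add g, map_add, map_add, LinearMap.add_apply, LinearMap.add_apply, ha, hb]; ring) hall hQ₀ hs₀ x y⟩

omit h

/-- For a finite field F and n ≥ 3, let σ be a field automorphism of F of order two and f a non-degenerate unitary form on F^n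
with respect to σ. Then the elements of SL_n(F) that are similarities of f form a maximal subgroup of SL_n(F). -/
theorem isMaximal {F : Type*} [Field F] [Fintype F] (n : ℕ) (hn : 3 ≤ n) (σ : F ≃+* F) (f : (Fin n → F) → (Fin n → F) → F)
    (hf : Cfsg.Geo.IsUnitaryForm σ f) :
    Cfsg.Geo.IsMaximalIn (Cfsg.Geo.specialLinear (Fin n) F) (Cfsg.Geo.similarityGroup f ⊓ Cfsg.Geo.specialLinear (Fin n) F) := by
  classical
  have hinv : Cfsg.Agent.Classical.Herm.IsInvol σ.toRingHom :=
    ⟨fun h => hf.ne_refl (RingEquiv.ext fun a => RingHom.congr_fun h a), hf.involutive⟩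
  let B : (Fin n → F) →ₛₗ[σ.toRingHom] (Fin n → F) →ₗ[F] F :=
    LinearMap.mk₂'ₛₗ σ.toRingHom (RingHom.id F) (fun x y => f y x)
      (fun x x' y => by rw [hf.herm, hf.add_left, map_add, ← hf.herm, ← hf.herm])
      (fun c x y => by rw [hf.herm, hf.smul_left, map_mul, ← hf.herm]; rfl)
      (fun x y y' => hf.add_left y y' x)
      (fun c x y => hf.smul_left c y x)
  have hBf : ∀ x y, B x y = f y x := fun x y => rfl
  have hB : Cfsg.Agent.Classical.Herm.IsHerm B :=
    { toIsInvol := hinv
      symm := fun x y => (hf.herm x y).symm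
      nondeg := fun x hx => by_contra fun h => (hf.nondegenerate x h).1.elim fun y hy => hy (hx y) }
  have hdim : 3 ≤ Module.finrank F (Fin n → F) := by rw [Module.finrank_fin_fun]; exact hn
  obtain ⟨a, -, hQa⟩ := exists_aniso hB (⊤ : Submodule F (Fin n → F)) (by rw [finrank_top]; omega)
  obtain ⟨p, -, hQp, hp0⟩ := SmallLinear.Unitary.exists_singular hB [] (by simp only [List.length_nil]; omega)
  have htop : Data B (⊤ : Subgroup ((Fin n → F) ≃ₗ[F] (Fin n → F))) := ⟨hB, hdim, fun _ _ _ => Subgroup.mem_top _⟩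
  refine isMaximalIn_specialLinear _ ?_ fun M hK hg => ?_
  · -- a tangent transvection with a multiplier that is not skew
    obtain ⟨b, hb⟩ : ∃ b : F, b + σ b ≠ 0 := by
      obtain ⟨c, hc⟩ := Herm.exists_trace hinv (a := 1) (map_one _)
      exact ⟨c, by rw [show c + σ c = 1 from hc]; exact one_ne_zero⟩
    have h0 : (b • B p) p = 0 := by rw [LinearMap.smul_apply, hQp, smul_zero]
    refine ⟨b • B p, p, h0, fun hmem => ?_⟩
    obtain ⟨c, hc⟩ := hmem
    obtain ⟨t, ht, hpt⟩ := exists_partner htop hQp hp0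
    have htp : B t p = 1 := by rw [← hB.symm, hpt, map_one]
    have h1 := hc t t
    rw [symm_mulVec, tvec_apply h0, ← hBf, ← hBf] at h1
    simp only [map_add, map_smulₛₗ, LinearMap.add_apply, LinearMap.smul_apply, smul_eq_mul, RingHom.id_apply, ht, hpt, htp, hQp] at h1
    exact hb (by
      have : σ.toRingHom b = σ b := rfl
      simp only [mul_one, this] at h1
      linear_combination h1)
  · have hSU : ∀ g : (Fin n → F) ≃ₗ[F] (Fin n → F), (∀ x y, B (g x) (g y) = B x y) → LinearMap.det g.toLinearMap = 1 → g ∈ M := by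
      intro g hg hd
      have := hK ((glEquiv (Fin n) F).symm g) ⟨⟨1, fun x y => by
          rw [symm_mulVec, symm_mulVec, Units.val_one, one_mul]; exact hg y x⟩,
        (mem_specialLinear_iff _).2 (by rw [MulEquiv.apply_symm_apply]; exact hd)⟩
      rwa [MulEquiv.apply_symm_apply] at this
    obtain ⟨g, hgK, hgM⟩ := hg
    refine all_transvections ⟨hB, hdim, hSU⟩ ⟨p, hp0, hQp⟩ hgM fun ⟨c, hc⟩ => hgK ?_
    have hc0 : c ≠ 0 := fun h => by
      obtain ⟨b, rfl⟩ := (glEquiv (Fin n) F g).surjective a
      exact hQa (by rw [hc, h, zero_mul])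
    exact ⟨Units.mk0 c hc0, fun u v => hc v u⟩

end Cfsg.Agent.ClassicalMax.SmallForm.Unit
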